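import Mathlib
import Cfsg.Agent.OT.Defs

/-!
# Doubly transitive groups with a nilpotent normal transitive subgroup of a point stabilizer
-/

set_option autoImplicit false

namespace Cfsg.Agent.KS

open Subgroup MulAction Cfsg.Agent.TT Cfsg.Agent.OT Cfsg.Agent.Perm.TT
open scoped commutatorElement

universe u v

/-- The setwise stabilizer. -/
def St (G : Type u) {X : Type v} [Group G] [MulAction G X] (S : Set X) : Subgroup G where
  carrier := {g | ∀ c, g • c ∈ S ↔ c ∈ S}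
  one_mem' c := by rw [one_smul]
  mul_mem' {a b} ha hb c := by rw [mul_smul, ha, hb]
  inv_mem' {a} ha c := by rw [← ha, smul_inv_smul]

variable {G : Type u} {X : Type v} [Group G] [MulAction G X]

/-- `Q` is nilpotent, normal in the stabilizer of `x`, and transitive on the other points. -/
structure NT (x : X) (Q : Subgroup G) : Prop where
  two : Two G X
  le : ∀ u ∈ Q, u • x = x
  ni : NI x Q
  nil : Group.IsNilpotent Q
  tr : ∀ a b : X, a ≠ x → b ≠ x → ∃ u ∈ Q, u • a = b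

/-- The family version of `NT`. -/
structure NF (Q : X → Subgroup G) : Prop where
  two : Two G X
  fam : Fam Q
  nil : ∀ x, Group.IsNilpotent (Q x)
  tr : ∀ x a b : X, a ≠ x → b ≠ x → ∃ u ∈ Q x, u • a = b

/-- The theorem for the constituents on proper subsets. -/
def IND (Q : X → Subgroup G) : Prop :=
  ∀ S : Set X, S ≠ Set.univ →
    (∀ z ∈ S, ∀ a ∈ S, ∀ b ∈ S, a ≠ z → b ≠ z → ∃ u ∈ Q z, u ∈ St G S ∧ u • a = b) →
    ∀ x ∈ S, ∀ y ∈ S, x ≠ y → ∀ d ∈ Kp Q x y, d ∈ St G S → ∀ c ∈ S, d • c = c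

/-- A minimal counterexample of odd order. -/
structure OC (Q : X → Subgroup G) : Prop extends NF Q where
  nreg : ¬ HasReg G X
  odd : ∀ x, Odd (Nat.card (Q x))
  nsr : ∀ {x y : X}, x ≠ y → Kp Q x y ≠ ⊥
  ind : IND Q
  max : ∀ (x : X) (K : Subgroup G), Q x ≤ K → (∀ k ∈ K, k • x = x) → NI x K →
    Group.IsNilpotent K → K ≤ Q x

/-- The stabilizer of the line through `x` and `y`. -/
abbrev M (Q : X → Subgroup G) (x y : X) : Subgroup G := St G (ln Q x y)

/-- The pointwise stabilizer of the line through `x` and `y`. -/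
abbrev W (Q : X → Subgroup G) (x y : X) : Subgroup G := fixingSubgroup G (ln Q x y)

/-- The elements of `Q x` stabilizing all lines through `x`. -/
def T (Q : X → Subgroup G) (x : X) : Subgroup G := Q x ⊓ ⨅ z, M Q x z

/-- The group generated by the `T z`, `z` on the line. -/
def E (Q : X → Subgroup G) (x y : X) : Subgroup G := closure {e | ∃ z ∈ ln Q x y, e ∈ T Q z}

/-- The elements of `Q x` that centralize `T x` and are central modulo `T x`. -/
def Y (Q : X → Subgroup G) (x : X) : Subgroup G where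
  carrier := {u | u ∈ Q x ∧ (∀ τ ∈ T Q x, Commute u τ) ∧ ∀ q ∈ Q x, ⁅u, q⁆ ∈ T Q x}
  one_mem' := ⟨one_mem _, fun _ _ => Commute.one_left _, fun q _ => by simp⟩
  mul_mem' {a b} ha hb := ⟨mul_mem ha.1 hb.1, fun τ h => (ha.2.1 τ h).mul_left (hb.2.1 τ h),
    fun q hq => by
      have e : ⁅a * b, q⁆ = a * ⁅b, q⁆ * a⁻¹ * ⁅a, q⁆ := by
        simp only [commutatorElement_def]; group
      rw [e, (ha.2.1 _ (hb.2.2 q hq)).eq, mul_inv_cancel_right]
      exact mul_mem (hb.2.2 q hq) (ha.2.2 q hq)⟩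
  inv_mem' {a} ha := ⟨inv_mem ha.1, fun τ h => (ha.2.1 τ h).inv_left, fun q hq => by
    have e : ⁅a⁻¹, q⁆ = a⁻¹ * (⁅a, q⁆⁻¹ * a) := by simp only [commutatorElement_def]; group
    rw [e, ← (ha.2.1 _ (inv_mem (ha.2.2 q hq))).eq, inv_mul_cancel_left]
    exact inv_mem (ha.2.2 q hq)⟩

/-- The geometry of lines. -/
structure GE (Q : X → Subgroup G) (p : ℕ) : Prop extends OC Q where
  prime : p.Prime
  lnD : ∀ {x y z w : X}, x ≠ y → z ∈ ln Q x y → w ∈ ln Q x y → z ≠ w → Kp Q z w = Kp Q x y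
  pT : ∀ x, ∀ u ∈ Q x, (orderOf u).Coprime p → u ∈ T Q x
  cenp : ∀ x, ∃ c ∈ Q x, orderOf c = p ∧ ∀ u ∈ Q x, Commute c u
  srT : ∀ x, SR x (T Q x)
  trE : ∀ {x y z w : X}, x ≠ y → z ∈ ln Q x y → w ∈ ln Q x y → ∃ e ∈ E Q x y, e • z = w

/-- `a` fixes `x` and `y`, centralizes `Kp Q x y`, and has order prime to that of `Q x`. -/
structure CA (Q : X → Subgroup G) (x y : X) (a : G) : Prop where
  ne : x ≠ y
  ne_one : a ≠ 1
  cop : (orderOf a).Coprime (Nat.card (Q x))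
  fx : a • x = x
  fy : a • y = y
  cen : ∀ d ∈ Kp Q x y, Commute a d

/-- No involution fixing two points `x`, `y` centralizes `Kp Q x y`. -/
structure II (Q : X → Subgroup G) (p : ℕ) : Prop extends GE Q p where
  noinv : ∀ {x y : X}, x ≠ y → ∀ t : G, t * t = 1 → t • x = x → t • y = y →
    (∀ d ∈ Kp Q x y, Commute t d) → t = 1

/-- The line through `x` and `y` is affine with translation group `V`. -/
structure Aff (Q : X → Subgroup G) (x y : X) (V : Subgroup G) : Prop where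
  ne : x ≠ y
  le : V ≤ E Q x y
  sq : ∀ n ∈ V, n * n = 1
  norm : ∀ g ∈ M Q x y, ∀ n ∈ V, g * n * g⁻¹ ∈ V
  tr : ∀ z ∈ ln Q x y, ∀ w ∈ ln Q x y, ∃ n ∈ V, n • z = w

/-- `E Q x y` acts on the line through `x` and `y` as a Zassenhaus group of degree `2 m + 2`
whose two-point stabilizer has order `m`. -/
structure Zs (Q : X → Subgroup G) (x y : X) (m : ℕ) : Prop where
  ne : x ≠ y
  one_lt : 1 < m
  card : (ln Q x y).ncard = 2 * m + 2
  three : ∀ e ∈ E Q x y, e • x = x → e • y = y → ∀ c ∈ ln Q x y, c ≠ x → c ≠ y → e • c = c →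
    e ∈ W Q x y
  orb : ∀ c ∈ ln Q x y, c ≠ x → c ≠ y →
    {b | ∃ e ∈ E Q x y, e • x = x ∧ e • y = y ∧ e • c = b}.ncard = m

variable {Q : X → Subgroup G} {x y z w : X} {S : Set X}

theorem mem_St {g : G} : g ∈ St G S ↔ ∀ c, g • c ∈ S ↔ c ∈ S := Iff.rfl

theorem St.smul_mem {g : G} (hg : g ∈ St G S) {c : X} (hc : c ∈ S) : g • c ∈ S := (hg c).2 hc

theorem mem_St_of [Finite X] {g : G} (h : ∀ c ∈ S, g • c ∈ S) : g ∈ St G S := fun c =>
  ⟨fun hc => by
    have hb : Set.BijOn (fun c => g • c) S S :=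
      (S.toFinite.injOn_iff_bijOn_of_mapsTo h).1 (MulAction.injective g).injOn
    obtain ⟨b, hb, e⟩ := hb.surjOn hc
    exact MulAction.injective g e ▸ hb, h c⟩

theorem conj_mem_St {g m : G} {S' : Set X} (e : ∀ c, g • c ∈ S' ↔ c ∈ S) (hm : m ∈ St G S) :
    g * m * g⁻¹ ∈ St G S' := fun c => by
  rw [mul_smul, mul_smul, e, hm, ← e, smul_inv_smul]

theorem mem_W {g : G} : g ∈ W Q x y ↔ ∀ c ∈ ln Q x y, g • c = c := mem_fixingSubgroup_iff G

theorem mem_T {u : G} : u ∈ T Q x ↔ u ∈ Q x ∧ ∀ z, u ∈ M Q x z := by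
  rw [T, mem_inf, mem_iInf]

theorem mem_Y {u : G} :
    u ∈ Y Q x ↔ u ∈ Q x ∧ (∀ τ ∈ T Q x, Commute u τ) ∧ ∀ q ∈ Q x, ⁅u, q⁆ ∈ T Q x := Iff.rfl

theorem T_le : T Q x ≤ Q x := inf_le_left

theorem Y_le : Y Q x ≤ Q x := fun _ h => h.1

theorem T_le_M : T Q x ≤ M Q x y := fun _ h => (mem_T.1 h).2 y

theorem T_le_E (hz : z ∈ ln Q x y) : T Q z ≤ E Q x y := fun _ h => subset_closure ⟨z, hz, h⟩

theorem Kp_le_W : Kp Q x y ≤ W Q x y := fun k hk => mem_W.2 fun _ hc => hc k hk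

theorem W_le_M : W Q x y ≤ M Q x y := fun g hg c =>
  ⟨fun h => by
    have := mem_W.1 (inv_mem hg) _ h
    rw [inv_smul_smul] at this
    exact this ▸ h, fun h => by rw [mem_W.1 hg c h]; exact h⟩

theorem conj_mem_W_of_M {g k : G} (hg : g ∈ M Q x y) (hk : k ∈ W Q x y) :
    g * k * g⁻¹ ∈ W Q x y :=
  mem_W.2 fun c hc => conj_smul_iff'.2 (mem_W.1 hk _ (St.smul_mem (inv_mem hg) hc))

/-- An element centralizing `Kp Q x y` stabilizes the line. -/
theorem mem_M_of_commute {g : G} (h : ∀ d ∈ Kp Q x y, Commute g d) : g ∈ M Q x y := fun c =>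
  ⟨fun hc d hd => by
    have := hc d hd
    rwa [← mul_smul, ← (h d hd).eq, mul_smul, smul_left_cancel_iff] at this,
   fun hc d hd => smul_fix_of_commute (h d hd) (hc d hd)⟩

section Fam

variable (h : Fam Q)
include h

theorem conj_mem_Kp (g : G) {d : G} (hd : d ∈ Kp Q x y) : g * d * g⁻¹ ∈ Kp Q (g • x) (g • y) :=
  ⟨h.conj g x d hd.1, conj_smul_iff.2 hd.2⟩

theorem conj_mem_M (g : G) {m : G} (hm : m ∈ M Q x y) : g * m * g⁻¹ ∈ M Q (g • x) (g • y) :=
  conj_mem_St (fun _ => h.smul_mem_ln_iff) hm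

theorem conj_mem_W (g : G) {k : G} (hk : k ∈ W Q x y) : g * k * g⁻¹ ∈ W Q (g • x) (g • y) :=
  mem_W.2 fun c hc => conj_smul_iff'.2 (mem_W.1 hk _
    (h.smul_mem_ln_iff.1 (by rwa [smul_inv_smul])))

theorem fam_T : Fam (T Q) :=
  ⟨fun x n hn => h.le x n hn.1, fun g x n hn => mem_T.2 ⟨h.conj g x n hn.1, fun z => by
    simpa using conj_mem_M h g ((mem_T.1 hn).2 (g⁻¹ • z))⟩⟩

theorem fam_Y : Fam (Y Q) :=
  ⟨fun x n hn => h.le x n hn.1, fun g x n hn => ⟨h.conj g x n hn.1, fun τ hτ => by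
    have := (hn.2.1 _ ((fam_T h).conj_inv rfl hτ)).map (MulAut.conj g)
    simpa [mul_assoc] using this, fun q hq => by
    have := (fam_T h).conj g x _ (hn.2.2 _ (h.conj_inv rfl hq))
    convert this using 1
    simp only [commutatorElement_def]; group⟩⟩

theorem conj_mem_E (g : G) {e : G} (he : e ∈ E Q x y) : g * e * g⁻¹ ∈ E Q (g • x) (g • y) := by
  induction he using closure_induction with
  | mem e he =>
    obtain ⟨z, hz, he⟩ := he
    exact T_le_E (h.smul_mem_ln g hz) ((fam_T h).conj g z e he)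
  | one => simp
  | mul a b _ _ ha hb => simpa [mul_assoc] using mul_mem ha hb
  | inv a _ ha => simpa [mul_assoc] using inv_mem ha

theorem mem_M_of_fix {g : G} (hx : g • x = x) (hy : g • y = y) : g ∈ M Q x y := fun c => by
  have := h.smul_mem_ln_iff (g := g) (x := x) (y := y) (z := c)
  rwa [hx, hy] at this

theorem conj_mem_E_of_M {g e : G} (hg : g ∈ M Q x y) (he : e ∈ E Q x y) :
    g * e * g⁻¹ ∈ E Q x y := by
  induction he using closure_induction with
  | mem e he =>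
    obtain ⟨z, hz, he⟩ := he
    exact T_le_E (St.smul_mem hg hz) ((fam_T h).conj g z e he)
  | one => simp
  | mul a b _ _ ha hb => simpa [mul_assoc] using mul_mem ha hb
  | inv a _ ha => simpa [mul_assoc] using inv_mem ha

theorem CA.conj {a : G} (ha : CA Q x y a) (h2 : Two G X) (g : G) :
    CA Q (g • x) (g • y) (g * a * g⁻¹) :=
  ⟨fun e => ha.ne (MulAction.injective g e), by simpa [mul_inv_eq_one] using ha.ne_one, by
    rw [h.card_eq h2 (g • x) x, ← MulAut.conj_apply, MulEquiv.orderOf_eq]; exact ha.cop,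
    conj_smul_iff.2 ha.fx, conj_smul_iff.2 ha.fy, fun d hd => by
    have := conj_mem_Kp h g⁻¹ hd
    rw [inv_smul_smul, inv_smul_smul] at this
    simpa [mul_assoc] using (ha.cen _ this).map (MulAut.conj g)⟩

theorem Aff.conj {V : Subgroup G} (hV : Aff Q x y V) (g : G) :
    Aff Q (g • x) (g • y) (V.map (MulAut.conj g).toMonoidHom) := by
  refine ⟨fun e => hV.ne (MulAction.injective g e), ?_, ?_, ?_, fun z hz w hw => ?_⟩
  · rintro _ ⟨n, hn, rfl⟩
    exact conj_mem_E h g (hV.le hn)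
  · rintro _ ⟨n, hn, rfl⟩
    rw [← map_mul, hV.sq n hn, map_one]
  · rintro m hm _ ⟨n, hn, rfl⟩
    have := conj_mem_M h g⁻¹ hm
    rw [inv_smul_smul, inv_smul_smul] at this
    exact ⟨_, hV.norm _ this n hn, by simp [mul_assoc]⟩
  · obtain ⟨n, hn, e⟩ := hV.tr (g⁻¹ • z) (h.smul_mem_ln_iff.1 (by rwa [smul_inv_smul]))
      (g⁻¹ • w) (h.smul_mem_ln_iff.1 (by rwa [smul_inv_smul]))
    exact ⟨_, ⟨n, hn, rfl⟩, by simp [mul_smul, e]⟩

end Fam

theorem NF.nt (h : NF Q) (x : X) : NT x (Q x) :=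
  ⟨h.two, h.fam.le x, h.fam.ni x, h.nil x, h.tr x⟩

/-- The centre of `Q` is semiregular. -/
theorem NT.cen_sr {U : Subgroup G} (h : NT x U) {c : G} (hc : c • x = x)
    (hz : ∀ u ∈ U, Commute c u) {a : X} (ha : a ≠ x) (e : c • a = a) : c = 1 :=
  h.two.faith c fun b => by
    by_cases hb : b = x
    · rw [hb, hc]
    · obtain ⟨u, hu, rfl⟩ := h.tr a b ha hb
      exact smul_fix_of_commute (hz u hu).symm e

end Cfsg.Agent.KS
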