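import Mathlib
import Cfsg.Agent.KS.Defs
import Cfsg.Agent.GT.Fitting
import Cfsg.Agent.GT.FrobeniusComplement
import Cfsg.Agent.GT.PGroupCyclicNormal
import Cfsg.Agent.Ch.PiPart

/-! Nilpotent linear groups that are transitive on the non-zero vectors. -/

set_option autoImplicit false
set_option linter.unusedSectionVars false

namespace Cfsg.Agent.KS

open Subgroup MulAction Cfsg.Agent.TT Cfsg.Agent.OT Cfsg.Agent.Perm.TT Cfsg.Agent.Perm.TwoCount
open scoped commutatorElement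

universe u v

variable {G : Type u} {X : Type v} [Group G] [Finite G] [MulAction G X] [Finite X]
  {Q : X → Subgroup G} {p : ℕ} {x y z w : X}

namespace Af

variable {U B V : Subgroup G}

theorem fix_iff [hV : V.Normal] (hr : ∀ r ∈ V, r • x = x → r = 1) {g n : G} (hg : g • x = x) (hn : n ∈ V) :
    g • n • x = n • x ↔ Commute g n := by
  refine ⟨fun e => ?_, fun e => by rw [← mul_smul, e.eq, mul_smul, hg]⟩
  have := hr (n⁻¹ * (g * n * g⁻¹)) (mul_mem (inv_mem hn) (hV.conj_mem n hn g)) (by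
    rw [mul_smul, mul_smul, mul_smul, inv_smul_eq_iff.2 hg.symm, e, inv_smul_smul])
  exact mul_inv_eq_iff_eq_mul.1 (inv_mul_eq_one.1 this).symm

theorem back (h : NT x U) (hB : B ≤ U) (hn : ∀ u ∈ U, ∀ b ∈ B, u * b * u⁻¹ ∈ B) {c d : X} (hc : c ≠ x) (hd : d ≠ x)
    (e : ∀ b ∈ B, b • c = c → b • d = d) : ∀ b ∈ B, b • d = d → b • c = c := by
  obtain ⟨u, hu, rfl⟩ := h.tr d c hd hc
  have h1 : B ⊓ stabilizer G (u • d) = B ⊓ stabilizer G d := eq_of_le_of_card_ge (fun b hb => ⟨hb.1, e b hb.1 hb.2⟩)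
    (Nat.card_le_card_of_injective (fun b => ⟨u * b * u⁻¹, hn u hu _ b.2.1, conj_smul_iff.2 b.2.2⟩)
      fun a b e => Subtype.ext (by simpa using Subtype.mk.inj e))
  exact fun b hb e => (h1.ge ⟨hb, e⟩).2

/-- Abelian normal subgroups of `U` are semiregular. -/
theorem sr (h : NT x U) (hr : HasReg G X) (hB : B ≤ U) (hc : ∀ a ∈ B, ∀ b ∈ B, Commute a b)
    (hn : ∀ u ∈ U, ∀ b ∈ B, u * b * u⁻¹ ∈ B) : SR x B := fun a ha c hcx e => by
  obtain ⟨V, -, hV, -, tr, reg, ab, -⟩ := h.two.exists_reg hr x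
  have fi := fun {b n : G} (hb : b ∈ B) (hn : n ∈ V) => fix_iff (reg x) (h.le b (hB hb)) hn
  have bk : ∀ m ∈ V, ∀ n ∈ V, m ≠ 1 → n ≠ 1 → (∀ b ∈ B, Commute b m → Commute b n) → ∀ b ∈ B, Commute b n → Commute b m :=
    fun m hm n hn' m1 n1 k b hb e => (fi hb hm).1 (back h hB hn (fun e => m1 (reg x m hm e)) (fun e => n1 (reg x n hn' e))
      (fun b hb e => (fi hb hn').2 (k b hb ((fi hb hm).1 e))) b hb ((fi hb hn').2 e))
  obtain ⟨n, hn, rfl⟩ := tr x c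
  have an := (fi ha hn).1 e
  refine h.two.faith a fun d => ?_
  obtain ⟨m, hm, rfl⟩ := tr x d
  refine (fi ha hm).2 (by_contra fun am => am ?_)
  have m1 : m ≠ 1 := fun e => am (e ▸ Commute.one_right a)
  have k1 : a * m * a⁻¹ * m⁻¹ ≠ 1 := fun e => am (commutatorElement_eq_one_iff_commute.1 e)
  have kV : a * m * a⁻¹ * m⁻¹ ∈ V := mul_mem (hV.conj_mem m hm a) (inv_mem hm)
  have ck : ∀ b ∈ B, ∀ w, Commute b w → Commute b (a * w * a⁻¹ * w⁻¹) := fun b hb w e =>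
    (((hc b hb a ha).mul_right e).mul_right (hc b hb a ha).inv_right).mul_right e.inv_right
  have e2 : a * (n * m) * a⁻¹ * (n * m)⁻¹ = a * m * a⁻¹ * m⁻¹ := by
    calc _ = n * (a * m * a⁻¹ * m⁻¹) * n⁻¹ := by rw [← mul_assoc a, an.eq]; group
      _ = _ := by rw [ab n hn _ kV, mul_inv_cancel_right]
  refine bk m hm n hn m1 (fun e => hcx (by rw [e, one_smul])) (fun b hb e => ?_) a ha an
  simpa using (bk (n * m) (mul_mem hn hm) _ kV (fun e => am (eq_inv_of_mul_eq_one_right e ▸ an.inv_right)) k1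
    (fun b hb e => e2 ▸ ck b hb _ e) b hb (ck b hb m e)).mul_right e.inv_right

theorem cyc (h : NT x U) (hr : HasReg G X) (hyx : y ≠ x) (hB : B ≤ U) (hs : SR x B) [IsMulCommutative B] :
    IsCyclic B := by
  obtain ⟨V, -, hV, -, tr, reg, -⟩ := h.two.exists_reg hr x
  obtain ⟨n, hn, e⟩ := tr x y
  refine (GT.Frob.hasFpfAction_of_fpf (K := V) (fun e' => hyx (by rw [← e, show n = 1 from mem_bot.1 (e' ▸ hn), one_smul]))
    (le_normalizer_of_normal) fun a ha a1 => eq_bot_iff.2 fun m hm => by_contra fun m1 => a1 ?_).isCyclic_of_comm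
  exact hs a ha (m • x) (fun e => m1 (reg x m hm.1 e))
    ((fix_iff (reg x) (h.le a (hB ha)) hm.1).2 (mem_centralizer_singleton_iff.1 hm.2).symm)

theorem mem_core [Group.IsNilpotent U] {r : ℕ} {g : G} : g ∈ pCoreOf r U ↔ g ∈ U ∧ ∃ k, g ^ r ^ k = 1 :=
  ⟨fun h => ⟨GT.pCoreOf_le U h, (GT.isPGroup_pCoreOf r U ⟨g, h⟩).imp fun _ e => congrArg Subtype.val e⟩,
    fun ⟨h, k, e⟩ => GT.le_pCoreOf_of_isNilpotent (zpowers_le.2 h) (fun ⟨_, i, rfl⟩ => ⟨k, Subtype.ext (by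
      change (g ^ i) ^ r ^ k = 1
      rw [← zpow_natCast, ← zpow_mul, mul_comm, zpow_mul, zpow_natCast, e, one_zpow])⟩) (mem_zpowers g)⟩

theorem dec [Group.IsNilpotent U] {r : ℕ} (hr : r.Prime) {u : G} (hu : u ∈ U) :
    ∃ s ∈ pCoreOf r U, ∃ t ∈ U, u = s * t ∧ ∀ g ∈ pCoreOf r U, Commute t g := by
  obtain ⟨k, n, hn, e⟩ := Nat.exists_eq_pow_mul_and_not_dvd (orderOf_pos u).ne' r hr.ne_one
  have hc := (hr.coprime_iff_not_dvd.2 hn).symm
  obtain ⟨s, t, hs, ht, e1, -, e2, e3⟩ := Ch.exists_coprime_parts u (hc.symm.pow_left k) (e ▸ pow_orderOf_eq_one u)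
  refine ⟨s, mem_core.2 ⟨zpowers_le.2 hu hs, k, e2⟩, t, zpowers_le.2 hu ht, e1, fun g hg => ?_⟩
  obtain ⟨h1, l, h2⟩ := mem_core.1 hg
  exact GT.commute_of_coprime_of_isNilpotent (zpowers_le.2 hu ht) h1
    (((hc.pow_right l).coprime_dvd_left (orderOf_dvd_of_pow_eq_one e3)).coprime_dvd_right (orderOf_dvd_of_pow_eq_one h2))

theorem sr_map (h : NT x U) (hr : HasReg G X) {r : ℕ} (hp : r.Prime) (A : Subgroup (pCoreOf r U)) [hA : A.Normal]
    [IsMulCommutative A] : SR x (A.map (pCoreOf r U).subtype) := by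
  have := h.nil
  refine sr h hr ((map_subtype_le _).trans (GT.pCoreOf_le U)) ?_ ?_
  · rintro _ ⟨a, ha, rfl⟩ _ ⟨b, hb, rfl⟩
    exact congrArg (fun g : A => ((g : pCoreOf r U) : G)) (mul_comm' (⟨a, ha⟩ : A) ⟨b, hb⟩)
  · rintro u hu _ ⟨a, ha, rfl⟩
    obtain ⟨s, hs, t, -, rfl, e⟩ := dec hp hu
    refine ⟨_, hA.conj_mem a ha ⟨s, hs⟩, ?_⟩
    change s * a * s⁻¹ = s * t * a * (s * t)⁻¹
    rw [mul_assoc s t, (e a a.2).eq]; group

theorem key (h : NT x U) (hr : HasReg G X) {g : G} (hg : g ∈ U) {c : X} (hc : c ≠ x) (e : g • c = c) (h1 : g ≠ 1) :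
    ∃ g' ∈ zpowers g, orderOf g' = 2 ∧ ∃ (m : ℕ) (a b : pCoreOf 2 U), GT.PG.MaxTwo m a b := by
  have := h.nil
  have hp := Nat.minFac_prime (mt orderOf_eq_one_iff.1 h1)
  have ho := orderOf_pow_orderOf_div (orderOf_pos g).ne' (Nat.minFac_dvd (orderOf g))
  generalize (orderOf g).minFac = r at hp ho
  have := Fact.mk hp
  rcases GT.PG.isCyclic_or_maxTwo_of_normal_abelian_isCyclic (GT.isPGroup_pCoreOf r U) (fun A _ _ =>
    (A.equivMapOfInjective _ (pCoreOf r U).subtype_injective).isCyclic.2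
      (cyc h hr hc ((map_subtype_le _).trans (GT.pCoreOf_le U)) (sr_map h hr hp A))) with k | ⟨rfl, m, a, b, k, -⟩
  · have := k.isMulCommutative
    have h2 := sr_map h hr hp ⊤ _ ⟨⟨_, mem_core.2 ⟨pow_mem hg (orderOf g / r), 1,
      orderOf_dvd_iff_pow_eq_one.1 (by rw [ho, pow_one])⟩⟩, mem_top _, rfl⟩ c hc (pow_mem (mem_stabilizer_iff.2 e) _)
    exact absurd (ho.symm.trans (orderOf_eq_one_iff.2 h2)) hp.ne_one
  · exact ⟨_, pow_mem (mem_zpowers g) _, ho, m, a, b, k⟩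

end Af

open Af in
/-- The affine case. -/
theorem NT.affine {U : Subgroup G} (h : NT x U) (hr : HasReg G X) (hyx : y ≠ x) {f : G}
    (hf : f ∈ U) (hy : f • y = y) (h1 : f ≠ 1) :
    Even (Nat.card U) ∧ ∃ U₀ : Subgroup G, U₀ ≤ U ∧ NI x U₀ ∧ SR x U₀ ∧ U₀ ⊔ zpowers f = U := by
  have := h.nil
  obtain ⟨g, hg, o, m, a, b, M⟩ := key h hr hf hyx hy h1
  have two : ∀ {g}, g ∈ U → orderOf g = 2 → g ∈ pCoreOf 2 U := fun hg o =>
    mem_core.2 ⟨hg, 1, by rw [pow_one, ← o, pow_orderOf_eq_one]⟩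
  have gU := zpowers_le.2 hf hg
  have gy : g • y = y := (zpowers_le.2 (mem_stabilizer_iff.2 hy) : _ ≤ stabilizer G y) hg
  have := M.normal
  have sA := sr_map h hr Nat.prime_two (zpowers a)
  have gA : (⟨g, two gU o⟩ : pCoreOf 2 U) ∉ zpowers a := fun e => ne_one_two o (sA g ⟨_, e, rfl⟩ y hyx gy)
  have hm : m ≠ 1 := fun e => by
    have := M.normal_centralizer_of_eq_one e gA
    have := (M.isElementaryAbelian_centralizer gA (Subtype.ext ((pow_two g).trans (mul_self_two o)))).1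
    exact ne_one_two o (sr_map h hr Nat.prime_two (centralizer {⟨g, two gU o⟩}) g
      ⟨_, mem_centralizer_singleton_iff.2 rfl, rfl⟩ y hyx gy)
  have hz : a ^ 2 ∉ center (pCoreOf 2 U) := fun e => by
    have h2 := (M.commute_zpow_iff M.notMem 2).1 ((zpow_ofNat a 2).symm ▸ (mem_center_iff.1 e b).symm)
    have h3 : 2 ^ m ∣ 2 ^ 1 := by exact_mod_cast h2
    have := (Nat.pow_dvd_pow_iff_le_right one_lt_two).1 h3
    have := M.one_le
    omega
  let U₀ : Subgroup G := U ⊓ centralizer ((fun s => s * s) '' (pCoreOf 2 U : Set G))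
  have m0 : ∀ {u}, u ∈ U₀ ↔ u ∈ U ∧ ∀ s ∈ pCoreOf 2 U, Commute (s * s) u := fun {u} =>
    and_congr_right fun _ => ⟨fun k s hs => k _ ⟨s, hs, rfl⟩, fun k _ ⟨s, hs, e⟩ => e ▸ k s hs⟩
  have mA : ∀ s : pCoreOf 2 U, (s : G) ∈ U₀ ↔ s ∈ zpowers a := fun s => by
    refine m0.trans ⟨fun k => M.centralizer_eq_of_notMem_center (pow_mem (mem_zpowers a) 2) hz ▸
      mem_centralizer_singleton_iff.2 (Subtype.ext ?_), fun k => ⟨GT.pCoreOf_le U s.2, fun t ht => ?_⟩⟩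
    · rw [pow_two]; exact (k.2 a a.2).symm
    · by_cases e : (⟨t, ht⟩ : pCoreOf 2 U) ∈ zpowers a
      · exact congrArg (fun g : zpowers a => ((g : pCoreOf 2 U) : G)) (mul_comm' (⟨_, mul_mem e e⟩ : zpowers a) ⟨s, k⟩)
      · exact congrArg Subtype.val (mem_center_iff.1 (pow_two (⟨t, ht⟩ : pCoreOf 2 U) ▸ M.sq_mem_center e) s).symm
  refine ⟨even_iff_two_dvd.2 (o ▸ orderOf_dvd_natCard U gU), U₀, inf_le_left, fun k hk u hu => ?_,
    fun u hu c hc e => by_contra fun u1 => ?_, le_antisymm (sup_le inf_le_left (zpowers_le.2 hf)) fun u hu => ?_⟩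
  · refine m0.2 ⟨h.ni k hk u hu.1, fun s hs => ?_⟩
    obtain ⟨s1, l, s2⟩ := mem_core.1 hs
    simpa [mul_assoc] using ((m0.1 hu).2 (k⁻¹ * s * k⁻¹⁻¹) (mem_core.2 ⟨h.ni _ (inv_smul_eq_iff.2 hk.symm) s s1, l, by
      rw [conj_pow, s2]; simp⟩)).map (MulAut.conj k)
  · obtain ⟨u', hu', o', -⟩ := key h hr hu.1 hc e u1
    have h2 := zpowers_le.2 hu hu'
    exact ne_one_two o' (sA u' ⟨_, (mA ⟨u', two h2.1 o'⟩).1 h2, rfl⟩ c hc
      ((zpowers_le.2 (mem_stabilizer_iff.2 e) : _ ≤ stabilizer G c) hu'))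
  · obtain ⟨s, hs, t, ht, rfl, e⟩ := dec Nat.prime_two hu
    refine mul_mem ?_ (mem_sup_left (m0.2 ⟨ht, fun s hs => (e _ (mul_mem hs hs)).symm⟩))
    rcases GT.PG.mem_or_mem_of_index_two M.index_eq gA ⟨s, hs⟩ with k | k
    · exact mem_sup_left ((mA _).2 k)
    · simpa using mul_mem (mem_sup_right (S := U₀) hg) (mem_sup_left ((mA _).2 k))

end Cfsg.Agent.KS
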