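import Mathlib
import Cfsg.Agent.KS.Defs
import Cfsg.Agent.GT.PConstrained

/-!
# The geometry of lines: basic consequences
-/

set_option autoImplicit false

namespace Cfsg.Agent.KS

open Subgroup MulAction Cfsg.Agent.TT Cfsg.Agent.OT Cfsg.Agent.Perm.TT Cfsg.Agent.Perm.TwoCount
open Cfsg.Agent.Perm
open scoped commutatorElement

universe u v

variable {G : Type u} {X : Type v} [Group G] [Finite G] [MulAction G X] [Finite X]
  {Q : X → Subgroup G} {p : ℕ} {x y z w : X}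

omit [Finite G] in
theorem ncard_compl_one (x : X) : ({x}ᶜ : Set X).ncard = Nat.card X - 1 := by
  rw [Set.compl_eq_univ_sdiff, Set.ncard_sdiff_singleton_of_mem (Set.mem_univ x), Set.ncard_univ]

theorem NF.card_Q (h : NF Q) (hxy : x ≠ y) :
    Nat.card (Q x) = (Nat.card X - 1) * Nat.card (Kp Q x y) := by
  have t : T1 (Q x) ({x}ᶜ : Set X) := ⟨fun u hu c hc e => hc (by
    have := h.fam.le x u hu
    exact MulAction.injective u (e.trans this.symm)), fun a ha b hb => h.tr x a b ha hb⟩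
  rw [t.card (a := y) hxy.symm, ncard_compl_one]

omit [Finite G] [Finite X] in
theorem OC.odd_orderOf (h : OC Q) {u : G} (hu : u ∈ Q x) : Odd (orderOf u) :=
  (h.odd x).of_dvd_nat (orderOf_dvd_natCard _ hu)

theorem OC.even_card (h : OC Q) (hxy : x ≠ y) : Even (Nat.card X) := by
  have := h.odd x
  rw [h.card_Q hxy] at this
  have h1 : Odd (Nat.card X - 1) := (Nat.odd_mul.1 this).1
  have h2 : 1 ≤ Nat.card X := by have : Nonempty X := ⟨x⟩; exact Nat.card_pos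
  rw [← Nat.sub_add_cancel h2]
  exact h1.add_one

omit [Finite G] [Finite X] in
/-- An involution has order prime to that of `Q x`. -/
theorem OC.cop_two (h : OC Q) {t : G} (ht : t * t = 1) (x : X) :
    (orderOf t).Coprime (Nat.card (Q x)) :=
  Nat.Coprime.coprime_dvd_left (orderOf_dvd_of_pow_eq_one (n := 2) (by rwa [sq]))
    (Nat.coprime_two_left.2 (h.odd x))

omit [Finite G] [Finite X] in
/-- Squaring is injective on `Q x`. -/
theorem OC.eq_one_of_sq (h : OC Q) {u : G} (hu : u ∈ Q x) (e : u * u = 1) : u = 1 :=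
  orderOf_eq_one_iff.1 (Nat.Coprime.eq_one_of_dvd (h.cop_two e x) (orderOf_dvd_natCard _ hu))

omit [Finite X] in
/-- Subgroups of a finite group that conjugate into each other have the same order. -/
theorem card_le_of_conj {A B : Subgroup G} (g : G) (h : ∀ a ∈ A, g * a * g⁻¹ ∈ B) :
    Nat.card A ≤ Nat.card B :=
  Nat.card_le_card_of_injective (fun a : A => (⟨g * a * g⁻¹, h a a.2⟩ : B)) fun a b e =>
    Subtype.ext (by simpa using congrArg Subtype.val e)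

omit [Finite X] in
theorem eq_of_le_of_conj {A B : Subgroup G} (hle : A ≤ B) (g : G) (h : ∀ b ∈ B, g * b * g⁻¹ ∈ A) :
    A = B := eq_of_le_of_card_ge hle (card_le_of_conj g h)

/-- The fixed points of a canonical subgroup of `Kp Q x y` are fixed by `Kp Q x y`. -/
theorem OC.fix_fun (h : OC Q) (A : X → X → Subgroup G) (le : ∀ x y, x ≠ y → A x y ≤ Kp Q x y)
    (conj : ∀ (g : G) (x y : X), x ≠ y → ∀ a ∈ A x y, g * a * g⁻¹ ∈ A (g • x) (g • y))
    (sym : ∀ x y, x ≠ y → A x y ≤ A y x)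
    (mono : ∀ x y z, x ≠ y → x ≠ z → A x y ≤ Kp Q x z → A x y ≤ A x z)
    (hxy : x ≠ y) (h1 : A x y ≠ ⊥) {c : X} (hc : ∀ a ∈ A x y, a • c = c) : c ∈ ln Q x y := by
  have key : ∀ z z' c : X, z ≠ z' → z ≠ c → (∀ a ∈ A z z', a • c = c) → A z z' = A z c := by
    intro z z' c h1 h2 h3
    obtain ⟨g, g1, g2⟩ := h.two.two h2 h1
    refine eq_of_le_of_conj (mono z z' c h1 h2 fun a ha => ⟨(le z z' h1 ha).1, h3 a ha⟩) g
      fun b hb => ?_
    have := conj g z c h2 b hb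
    rwa [g1, g2] at this
  set S : Set X := {c | ∀ a ∈ A x y, a • c = c}
  have hx : x ∈ S := fun a ha => h.fam.le x a (le x y hxy ha).1
  have hy : y ∈ S := fun a ha => (le x y hxy ha).2
  have k2 : ∀ z ∈ S, ∀ a ∈ S, a ≠ z → A z a = A x y := by
    have k1 : ∀ z ∈ S, ∃ z', z ≠ z' ∧ A z z' = A x y := fun z hz => by
      by_cases e : x = z
      · exact ⟨y, e ▸ hxy, e ▸ rfl⟩
      · exact ⟨x, Ne.symm e, (le_antisymm (sym _ _ (Ne.symm e)) (sym _ _ e)).trans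
          (key x y z hxy e hz).symm⟩
    intro z hz a ha haz
    obtain ⟨z', h1, h2⟩ := k1 z hz
    exact (key z z' a h1 haz.symm (h2 ▸ ha)).symm.trans h2
  have st : ∀ g : G, (∀ a ∈ A x y, g⁻¹ * a * g ∈ A x y) → g ∈ St G S := fun g hg =>
    mem_St_of fun c hc a ha => by
      have := hc _ (hg a ha)
      rwa [mul_smul, mul_smul, inv_smul_eq_iff] at this
  intro d hd
  refine h.ind S (fun e => h1 (eq_bot_iff.2 fun a ha => h.two.faith a fun c =>
    (e ▸ Set.mem_univ c : c ∈ S) a ha)) (fun z hz a ha b hb haz hbz => ?_) x hx y hy hxy d hd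
    (st d fun a ha => ?_) c hc
  · obtain ⟨u, hu, e⟩ := h.tr z a b haz hbz
    refine ⟨u, hu, st u fun k hk => ?_, e⟩
    have := conj u⁻¹ z b hbz.symm k (k2 z hz b hb hbz ▸ hk)
    rwa [inv_inv, h.fam.le z _ (inv_mem hu), ← e, inv_smul_smul, k2 z hz a ha haz] at this
  · have := conj d⁻¹ x y hxy a ha
    rwa [inv_inv, h.fam.le x _ (inv_mem hd.1), show d⁻¹ • y = y from (inv_mem hd).2] at this

namespace GE

variable (h : GE Q p)
include h

section NoFin
omit [Finite G] [Finite X]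

theorem symm (hxy : x ≠ y) : Kp Q y x = Kp Q x y :=
  h.lnD hxy (right_mem_ln x y) (h.fam.left_mem_ln x y) hxy.symm

theorem ln_eq (hxy : x ≠ y) (hz : z ∈ ln Q x y) (hw : w ∈ ln Q x y) (hzw : z ≠ w) :
    ln Q z w = ln Q x y := by
  rw [ln, h.lnD hxy hz hw hzw, ln]

theorem ln_symm (hxy : x ≠ y) : ln Q y x = ln Q x y :=
  h.ln_eq hxy (right_mem_ln x y) (h.fam.left_mem_ln x y) hxy.symm

theorem E_eq (hxy : x ≠ y) (hz : z ∈ ln Q x y) (hw : w ∈ ln Q x y) (hzw : z ≠ w) :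
    E Q z w = E Q x y := by
  rw [E, h.ln_eq hxy hz hw hzw, E]

theorem mem_M_of (hxy : x ≠ y) {g : G} (hx : g • x ∈ ln Q x y) (hy : g • y ∈ ln Q x y) :
    g ∈ M Q x y := fun c => by
  rw [← h.ln_eq hxy hx hy fun e => hxy (MulAction.injective g e), h.fam.smul_mem_ln_iff,
    h.ln_eq hxy hx hy fun e => hxy (MulAction.injective g e)]

/-- An element of `Q z` fixing a second point of the line fixes the line pointwise. -/
theorem mem_Kp_of_fix (hxy : x ≠ y) (hz : z ∈ ln Q x y) (hw : w ∈ ln Q x y) (hzw : z ≠ w) {u : G}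
    (hu : u ∈ Q z) (e : u • w = w) : u ∈ Kp Q x y :=
  h.lnD hxy hz hw hzw ▸ ⟨hu, e⟩

theorem conj_Kp_of_M (hxy : x ≠ y) {g d : G} (hg : g ∈ M Q x y) (hd : d ∈ Kp Q x y) :
    g * d * g⁻¹ ∈ Kp Q x y :=
  h.lnD hxy (St.smul_mem hg (h.fam.left_mem_ln x y)) (St.smul_mem hg (right_mem_ln x y))
    (fun e => hxy (MulAction.injective g e)) ▸ conj_mem_Kp h.fam g hd

theorem T_le_M' (hxy : x ≠ y) (hz : z ∈ ln Q x y) : T Q z ≤ M Q x y := by
  by_cases e : z = x
  · exact e ▸ T_le_M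
  · rw [M, ← h.ln_eq hxy hz (h.fam.left_mem_ln x y) e]
    exact T_le_M

theorem E_le_M (hxy : x ≠ y) : E Q x y ≤ M Q x y :=
  (closure_le _).2 fun _ ⟨_, hz, he⟩ => h.T_le_M' hxy hz he

theorem commTW (hxy : x ≠ y) (hz : z ∈ ln Q x y) {τ k : G} (hτ : τ ∈ T Q z) (hk : k ∈ W Q x y) :
    Commute τ k := by
  obtain ⟨c, hc, hcz⟩ : ∃ c ∈ ln Q x y, c ≠ z := by
    by_cases e : x = z
    · exact ⟨y, right_mem_ln x y, e ▸ hxy.symm⟩
    · exact ⟨x, h.fam.left_mem_ln x y, e⟩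
  refine commutatorElement_eq_one_iff_commute.1 (h.srT z _ ?_ c hcz ?_)
  · rw [commutatorElement_def, mul_assoc, mul_assoc, ← mul_assoc k]
    exact mul_mem hτ ((fam_T h.fam).conj' (mem_W.1 hk z hz) (inv_mem hτ))
  · exact mem_W.1 (mul_mem (conj_mem_W_of_M (h.T_le_M' hxy hz hτ) hk) (inv_mem hk)) c hc

theorem commEW (hxy : x ≠ y) {e k : G} (he : e ∈ E Q x y) (hk : k ∈ W Q x y) :
    Commute e k := by
  induction he using closure_induction with
  | mem e he => obtain ⟨z, hz, he⟩ := he; exact h.commTW hxy hz he hk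
  | one => exact Commute.one_left _
  | mul a b _ _ ha hb => exact ha.mul_left hb
  | inv a _ ha => exact ha.inv_left

theorem T_inf_Kp (hxy : x ≠ y) {u : G} (hu : u ∈ T Q x) (hd : u ∈ Kp Q x y) : u = 1 :=
  h.srT x u hu y hxy.symm hd.2

theorem cen_mem_T {c : G} (hc : c ∈ Q x) (hz : ∀ u ∈ Q x, Commute c u) : c ∈ T Q x :=
  mem_T.2 ⟨hc, fun _ => mem_M_of_commute fun d hd => hz d hd.1⟩

theorem exists_T (x : X) : ∃ c ∈ T Q x, orderOf c = p ∧ c ≠ 1 := by
  obtain ⟨c, hc, ho, hz⟩ := h.cenp x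
  exact ⟨c, h.cen_mem_T hc hz, ho, fun e => h.prime.ne_one (by rw [← ho, e, orderOf_one])⟩

theorem T_ne_bot (x : X) : T Q x ≠ ⊥ := fun e => by
  obtain ⟨c, hc, -, h1⟩ := h.exists_T x
  exact h1 (by rwa [e] at hc)

/-- `Q z ⊓ M Q x y` is transitive on the points of the line other than `z`. -/
theorem trM (hxy : x ≠ y) (hz : z ∈ ln Q x y) {a b : X} (ha : a ∈ ln Q x y) (hb : b ∈ ln Q x y)
    (haz : a ≠ z) (hbz : b ≠ z) : ∃ u ∈ Q z, u ∈ M Q x y ∧ u • a = b := by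
  obtain ⟨u, hu, e⟩ := h.tr z a b haz hbz
  refine ⟨u, hu, ?_, e⟩
  have e1 := h.ln_eq hxy hz ha haz.symm
  rw [M, ← e1]
  exact h.mem_M_of haz.symm (by rw [h.fam.le z u hu, e1]; exact hz) (by rw [e, e1]; exact hb)

theorem t2M (hxy : x ≠ y) : T2 (M Q x y) (ln Q x y) :=
  T2.of_base (a := x) (b := y) (fun _ hg _ hc => St.smul_mem hg hc) fun a ha b hb hab => by
    obtain ⟨g, rfl, rfl⟩ := h.two.two hxy hab
    exact ⟨g, h.mem_M_of hxy ha hb, rfl, rfl⟩

theorem exists_third (hxy : x ≠ y) : ∃ c ∈ ln Q x y, c ≠ x ∧ c ≠ y := by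
  obtain ⟨c, hc, -, h1⟩ := h.exists_T x
  exact ⟨c • y, St.smul_mem (T_le_M hc) (right_mem_ln x y), fun e => hxy (MulAction.injective c
    ((h.fam.le x c hc.1).trans e.symm)), fun e => h1 (h.srT x c hc y hxy.symm e)⟩

theorem exists_notMem (hxy : x ≠ y) : ∃ c, c ∉ ln Q x y := by
  by_contra! e
  exact h.nsr hxy (eq_bot_iff.2 fun d hd => h.two.faith d fun c => e c d hd)

theorem ncard_ln (hxy : x ≠ y) (hzw : z ≠ w) : (ln Q z w).ncard = (ln Q x y).ncard := by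
  obtain ⟨g, rfl, rfl⟩ := h.two.two hxy hzw
  rw [← Set.ncard_image_of_injective (ln Q x y) (MulAction.injective g)]
  congr 1
  ext c
  refine ⟨fun hc => ⟨g⁻¹ • c, h.fam.smul_mem_ln_iff.1 (by rwa [smul_inv_smul]), smul_inv_smul _ _⟩,
    ?_⟩
  rintro ⟨b, hb, rfl⟩
  exact h.fam.smul_mem_ln g hb

theorem p_ne_two (x : X) : p ≠ 2 := fun e => by
  obtain ⟨c, hc, ho, -⟩ := h.exists_T x
  have := h.odd_orderOf hc.1
  rw [ho, e] at this
  exact absurd this (by decide)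

/-- An involution stabilizes the line through a point and its image. -/
theorem mem_M_swap {t : G} (ht : t * t = 1) (e : t • z ≠ z) : t ∈ M Q z (t • z) :=
  h.mem_M_of e.symm (right_mem_ln _ _) (by
    rw [← mul_smul, ht, one_smul]; exact h.fam.left_mem_ln _ _)

end NoFin

omit [Finite G] in
theorem card_QM (hxy : x ≠ y) :
    Nat.card ↥(Q x ⊓ M Q x y) = ((ln Q x y).ncard - 1) * Nat.card (Kp Q x y) := by
  have t : T1 (Q x ⊓ M Q x y) (ln Q x y \ {x}) := ⟨fun u hu c hc => ⟨St.smul_mem hu.2 hc.1,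
    fun e => hc.2 (MulAction.injective u (e.trans (h.fam.le x u hu.1).symm))⟩, fun a ha b hb => by
    obtain ⟨u, h1, h2, h3⟩ := h.trM hxy (h.fam.left_mem_ln x y) ha.1 hb.1 ha.2 hb.2
    exact ⟨u, ⟨h1, h2⟩, h3⟩⟩
  rw [t.card (a := y) ⟨right_mem_ln x y, hxy.symm⟩,
    Set.ncard_sdiff_singleton_of_mem (h.fam.left_mem_ln x y)]
  congr 3
  exact le_antisymm (fun u hu => ⟨hu.1.1, hu.2⟩) fun u hu => ⟨⟨hu.1, W_le_M (Kp_le_W hu)⟩, hu.2⟩

omit [Finite G] in
theorem one_le_ln (x y : X) : 1 ≤ (ln Q x y).ncard :=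
  (Set.ncard_pos (Set.toFinite _)).2 ⟨x, h.fam.left_mem_ln x y⟩

theorem even_ln (hxy : x ≠ y) : Even (ln Q x y).ncard := by
  have : Odd (Nat.card ↥(Q x ⊓ M Q x y)) := (h.odd x).of_dvd_nat (card_dvd_of_le inf_le_left)
  rw [h.card_QM hxy] at this
  rw [← Nat.sub_add_cancel (h.one_le_ln x y)]
  exact (Nat.odd_mul.1 this).1.add_one

omit [Finite G] in
theorem card_T_dvd (hxy : x ≠ y) : Nat.card (T Q x) ∣ (ln Q x y).ncard - 1 := by
  have := Fx.card_dvd_of_semiregular (T Q x) (ln Q x y \ {x}) (fun u hu c hc =>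
    ⟨St.smul_mem (T_le_M hu) hc.1, fun e => hc.2 (MulAction.injective u
      (e.trans (h.fam.le x u hu.1).symm))⟩) fun u hu c hc e => h.srT x u hu c hc.2 e
  rwa [Nat.card_coe_set_eq, Set.ncard_sdiff_singleton_of_mem (h.fam.left_mem_ln x y)] at this

omit [Finite G] in
theorem dvd_ln (hxy : x ≠ y) : p ∣ (ln Q x y).ncard - 1 := by
  obtain ⟨c, hc, ho, -⟩ := h.exists_T x
  exact (ho ▸ orderOf_dvd_natCard _ hc).trans (h.card_T_dvd hxy)

omit [Finite G] in
theorem two_mul_ln (hxy : x ≠ y) : 2 * (ln Q x y).ncard ≤ Nat.card X + 1 := by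
  obtain ⟨c, hc⟩ := h.exists_notMem hxy
  have hxc : x ≠ c := fun e => hc (e ▸ h.fam.left_mem_ln x y)
  have e : ln Q x y ∩ ln Q x c = {x} := by
    refine Set.eq_singleton_iff_unique_mem.2 ⟨⟨h.fam.left_mem_ln _ _, h.fam.left_mem_ln _ _⟩,
      fun b hb => by_contra fun hbx => hc ?_⟩
    rw [← h.ln_eq hxy (h.fam.left_mem_ln _ _) hb.1 (Ne.symm hbx),
      h.ln_eq hxc (h.fam.left_mem_ln _ _) hb.2 (Ne.symm hbx)]
    exact right_mem_ln _ _
  have := Set.ncard_union_add_ncard_inter (ln Q x y) (ln Q x c)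
  rw [e, Set.ncard_singleton, h.ncard_ln hxy hxc] at this
  have h2 := Set.ncard_le_card (ln Q x y ∪ ln Q x c)
  omega

omit [Finite X] in
theorem isPGroup_of {U : Subgroup G} (hU : U ≤ Q x) (hT : ∀ u ∈ U, u ∈ T Q x → u = 1) :
    IsPGroup p U :=
  GT.isPGroup_of_forall_coprime_eq_one fun u hu hc => hT u hu (h.pT x u (hU hu) hc)

omit [Finite X] in
theorem isPGroup_Kp (hxy : x ≠ y) : IsPGroup p (Kp Q x y) :=
  h.isPGroup_of inf_le_left fun _ hu hT => h.T_inf_Kp hxy hT hu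

omit [Finite G] in
/-- A `p`-group stabilizing a line fixes one of its points. -/
theorem exists_fix (hxy : x ≠ y) {U : Subgroup G} (hU : IsPGroup p U) (hM : U ≤ M Q x y) :
    ∃ c ∈ ln Q x y, ∀ u ∈ U, u • c = c := by
  have := Fact.mk h.prime
  refine Fx.exists_fixed_of_not_dvd hU _ (fun u hu c hc => St.smul_mem (hM hu) hc) fun e => ?_
  rw [Nat.card_coe_set_eq] at e
  have := Nat.dvd_sub e (h.dvd_ln hxy)
  rw [Nat.sub_sub_self (h.one_le_ln x y)] at this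
  exact h.prime.ne_one (Nat.dvd_one.1 this)

/-- An involution stabilizing a line and fixing one of its points fixes a second one. -/
theorem second (hxy : x ≠ y) {t : G} (ht : t * t = 1) (hM : t ∈ M Q x y) (hz : z ∈ ln Q x y)
    (e : t • z = z) : ∃ c ∈ ln Q x y, c ≠ z ∧ t • c = c := by
  obtain ⟨c, hc, e'⟩ := TwoCount.exists_fix (Δ := ln Q x y \ {z}) (x := t) (fun c hc =>
    ⟨St.smul_mem hM hc.1, fun e' => hc.2 (MulAction.injective t (e'.trans e.symm))⟩)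
    (fun c _ => by rw [← mul_smul, ht, one_smul]) (by
      rw [Set.ncard_sdiff_singleton_of_mem hz]
      exact Nat.Even.sub_odd (h.one_le_ln x y) (h.even_ln hxy) odd_one)
  exact ⟨c, hc.1, hc.2, e'⟩

/-- The fixed points of a canonical subgroup of `Kp Q x y` form the line. -/
theorem fix_fun (A : X → X → Subgroup G) (le : ∀ x y, x ≠ y → A x y ≤ Kp Q x y)
    (conj : ∀ (g : G) (x y : X), x ≠ y → ∀ a ∈ A x y, g * a * g⁻¹ ∈ A (g • x) (g • y))
    (sym : ∀ x y, x ≠ y → A x y ≤ A y x)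
    (mono : ∀ x y z, x ≠ y → x ≠ z → A x y ≤ Kp Q x z → A x y ≤ A x z)
    (hxy : x ≠ y) (h1 : A x y ≠ ⊥) {c : X} (hc : ∀ a ∈ A x y, a • c = c) : c ∈ ln Q x y :=
  h.toOC.fix_fun A le conj sym mono hxy h1 hc

end GE

end Cfsg.Agent.KS
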