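import Mathlib
import Cfsg.Agent.KS.Basic
import Cfsg.Agent.GT.KegelWielandt
import Cfsg.Agent.GT.PGroupChain
import Cfsg.Agent.GT.Fitting

/-!
# The geometry of lines exists in a minimal counterexample
-/

set_option autoImplicit false

namespace Cfsg.Agent.KS

open Subgroup MulAction Cfsg.Agent.TT Cfsg.Agent.OT Cfsg.Agent.Perm.TT Cfsg.Agent.Perm.TwoCount
open scoped commutatorElement

universe u v

variable {G : Type u} {X : Type v} [Group G] [Finite G] [MulAction G X] [Finite X]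
  {Q : X → Subgroup G} {p : ℕ} {x y z w : X}

/-- The central elements of `U` of order dividing `p`. -/
def Zp (U : Subgroup G) (p : ℕ) : Subgroup G where
  carrier := {c | c ∈ U ∧ (∀ u ∈ U, Commute c u) ∧ c ^ p = 1}
  one_mem' := ⟨one_mem _, fun _ _ => Commute.one_left _, one_pow _⟩
  mul_mem' {a b} ha hb := ⟨mul_mem ha.1 hb.1, fun u hu => (ha.2.1 u hu).mul_left (hb.2.1 u hu), by
    rw [(ha.2.1 b hb.1).mul_pow, ha.2.2, hb.2.2, mul_one]⟩
  inv_mem' {a} ha := ⟨inv_mem ha.1, fun u hu => (ha.2.1 u hu).inv_left, by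
    rw [inv_pow, ha.2.2, inv_one]⟩

omit [Finite G] [Finite X] in
theorem fam_Zp (h : Fam Q) (p : ℕ) : Fam fun x => Zp (Q x) p :=
  ⟨fun x n hn => h.le x n hn.1, fun g x n hn => ⟨h.conj g x n hn.1, fun u hu => by
    simpa [mul_assoc] using (hn.2.1 _ (h.conj_inv rfl hu)).map (MulAut.conj g), by
    rw [conj_pow, hn.2.2, mul_one, mul_inv_cancel]⟩⟩

omit [Finite X] in
theorem NF.exists_cen (h : NF Q) (hp : p.Prime) (hd : p ∣ Nat.card (Q x)) :
    ∃ c ∈ Q x, orderOf c = p ∧ ∀ u ∈ Q x, Commute c u := by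
  have := h.nil x
  obtain ⟨c, hc, hz, ho⟩ := GT.Fac.exists_central_orderOf_eq hp hd
  exact ⟨c, hc, ho, fun u hu => (mem_centralizer_iff.1 hz u hu).symm⟩

omit [Finite X] in
/-- An element of prime order fixing `x` centralizes a central element of `Q x`. -/
theorem NF.exists_cen_commute (h : NF Q) (hp : p.Prime) (hd : p ∣ Nat.card (Q x)) {f : G}
    (ho : orderOf f = p) (hx : f • x = x) :
    ∃ c ∈ Q x, c ≠ 1 ∧ (∀ u ∈ Q x, Commute c u) ∧ Commute c f := by
  have := Fact.mk hp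
  obtain ⟨c, hc, hco, hz⟩ := h.exists_cen hp hd
  have h1 : Zp (Q x) p ≠ ⊥ := fun e => hp.ne_one (by
    have : c ∈ Zp (Q x) p := ⟨hc, hz, by rw [← hco, pow_orderOf_eq_one]⟩
    rw [e, mem_bot] at this
    rw [← hco, this, orderOf_one])
  have h2 := GT.PG.inf_centralizer_ne_bot_of_isPGroup (p := p) (M := Zp (Q x) p) (H := zpowers f)
    (GT.isPGroup_of_forall_pow_eq_one fun c hc => hc.2.2)
    (IsPGroup.of_card (n := 1) (by rw [Nat.card_zpowers, ho, pow_one]))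
    (zpowers_le.2 ((fam_Zp h.fam p).mem_norm hx)) h1
  obtain ⟨⟨b, hb⟩, b1⟩ := ne_bot_iff_exists_ne_one.1 h2
  exact ⟨b, hb.1.1, fun e => b1 (Subtype.ext e), hb.1.2.1,
    (mem_centralizer_iff.1 hb.2 f (mem_zpowers f)).symm⟩

omit [Finite X] in
theorem exists_prime_mem {K : Subgroup G} (h : K ≠ ⊥) : ∃ f ∈ K, (orderOf f).Prime := by
  obtain ⟨q, hq, hd⟩ := Nat.exists_prime_and_dvd (mt card_eq_one.1 h)
  have := Fact.mk hq
  obtain ⟨f, hf⟩ := exists_prime_orderOf_dvd_card' q hd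
  exact ⟨f, f.2, by rwa [orderOf_coe, hf]⟩

omit [Finite G] [Finite X] in
theorem NF.cen_ne (h : NF Q) {c : G} (hc : c ∈ Q x) (h1 : c ≠ 1) (hz : ∀ u ∈ Q x, Commute c u)
    (hy : y ≠ x) : c • y ≠ y := fun e => h1 ((h.nt x).cen_sr (h.fam.le x c hc) hz hy e)

omit [Finite X] in
theorem OC.inf_ne_bot (h : OC Q) (hxy : x ≠ y) : Q x ⊓ Q y ≠ ⊥ := by
  obtain ⟨f, hf, hp⟩ := exists_prime_mem (h.nsr hxy.symm)
  obtain ⟨c, hc, c1, hz, hcf⟩ := h.exists_cen_commute (x := x) hp (by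
    rw [h.fam.card_eq h.two x y]; exact orderOf_dvd_natCard _ hf.1) rfl hf.2
  obtain ⟨g, g1, g2⟩ := h.two.two (h.cen_ne hc c1 hz hxy.symm).symm hxy
  have f2 : f ∈ Q (c • y) := by
    have := h.fam.conj c y f hf.1
    rwa [hcf.eq, mul_inv_cancel_right] at this
  intro e
  have : g * f * g⁻¹ ∈ Q x ⊓ Q y := ⟨h.fam.conj' g1 hf.1, h.fam.conj' g2 f2⟩
  rw [e, mem_bot, conj_eq_one_iff] at this
  exact hp.ne_one (by rw [this, orderOf_one])

theorem OC.Kp_le (h : OC Q) (hxy : x ≠ y) : Kp Q x y ≤ Q y := by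
  set S : Set X := {z | Q x ⊓ Q y ≤ Q z}
  have hx : x ∈ S := inf_le_left (b := Q y)
  have hy : y ∈ S := inf_le_right (a := Q x)
  have k1 : ∀ z ∈ S, ∀ w ∈ S, z ≠ w → Q x ⊓ Q y = Q z ⊓ Q w := fun z hz w hw hzw => by
    obtain ⟨g, g1, g2⟩ := h.two.two hzw hxy
    exact eq_of_le_of_conj (le_inf hz hw) g fun b hb => ⟨h.fam.conj' g1 hb.1, h.fam.conj' g2 hb.2⟩
  have st : ∀ (g : G), ∀ z ∈ S, ∀ w ∈ S, z ≠ w → g • z ∈ S → g • w ∈ S → g ∈ St G S :=
    fun g z hz w hw hzw hz' hw' => mem_St_of fun c hc a ha => by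
      rw [k1 _ hz' _ hw' fun e => hzw (MulAction.injective g e)] at ha
      have : g⁻¹ * a * g ∈ Q x ⊓ Q y :=
        k1 z hz w hw hzw ▸ ⟨h.fam.conj_inv rfl ha.1, h.fam.conj_inv rfl ha.2⟩
      simpa [mul_assoc] using h.fam.conj g c _ (hc this)
  have hS : S ≠ Set.univ := fun e => h.inf_ne_bot hxy (eq_bot_iff.2 fun a ha => h.two.faith a
    fun c => h.fam.le c a ((e ▸ Set.mem_univ c : c ∈ S) ha))
  intro k hk
  have hW : ∀ c ∈ S, k • c = c := h.ind S hS (fun z hz a ha b hb haz hbz => by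
    obtain ⟨u, hu, e⟩ := h.tr z a b haz hbz
    exact ⟨u, hu, st u z hz a ha haz.symm (by rwa [h.fam.le z u hu]) (by rwa [e]), e⟩)
    x hx y hy hxy k hk (st k x hx y hy hxy (by rwa [h.fam.le x k hk.1]) (by rwa [hk.2]))
  obtain ⟨f, hf, hp⟩ := exists_prime_mem (h.nsr hxy)
  obtain ⟨c, hc, hco, hz⟩ := h.exists_cen (x := x) hp (orderOf_dvd_natCard _ hf.1)
  have c1 : c ≠ 1 := fun e => hp.ne_one (by rw [← hco, e, orderOf_one])
  have hcy : c • y ∈ S := fun a ha => by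
    have := h.fam.conj c y a ha.2
    rwa [(hz a ha.1).eq, mul_inv_cancel_right] at this
  have hcS : c ∈ St G S := st c x hx y hy hxy (by rwa [h.fam.le x c hc]) hcy
  have hne := (h.cen_ne hc c1 hz hxy.symm).symm
  obtain ⟨g, g1, g2⟩ := h.two.two hne hxy
  have hg : g ∈ St G S := st g y hy _ hcy hne (by rwa [g1]) (by rwa [g2])
  set k' := g⁻¹ * k * g with hk'
  have hW' : ∀ b ∈ S, k' • b = b := fun b hb => by
    rw [hk', mul_smul, mul_smul, hW _ (St.smul_mem hg hb), inv_smul_smul]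
  have cm : Commute c k' := by
    have hk'x := hW' x hx
    by_contra hn
    refine h.cen_ne (x := x) (y := y) (c := c * (k' * c⁻¹ * k'⁻¹))
      (mul_mem hc (h.fam.conj' hk'x (inv_mem hc))) (fun e => hn ?_) (fun u hu => (hz u hu).mul_left
        ?_) hxy.symm ?_
    · rwa [← mul_assoc, ← mul_assoc, ← commutatorElement_def,
        commutatorElement_eq_one_iff_commute] at e
    · simpa [mul_assoc] using (hz _ (h.fam.conj_inv hk'x hu)).inv_left.map (MulAut.conj k')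
    · rw [mul_smul, mul_smul, mul_smul, inv_smul_eq_iff.2 (hW' y hy).symm,
        hW' _ (St.smul_mem (inv_mem hcS) hy), smul_inv_smul]
  have := h.fam.conj c y k' (h.fam.conj_inv g1 hk.1)
  rw [cm.eq, mul_inv_cancel_right] at this
  simpa [hk', mul_assoc] using h.fam.conj' g2 this

theorem OC.Kp_symm (h : OC Q) (hxy : x ≠ y) : Kp Q x y = Kp Q y x :=
  le_antisymm (fun k hk => ⟨h.Kp_le hxy hk, h.fam.le x k hk.1⟩)
    fun k hk => ⟨h.Kp_le hxy.symm hk, h.fam.le y k hk.1⟩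

theorem OC.lnD (h : OC Q) (hxy : x ≠ y) (hz : z ∈ ln Q x y) (hw : w ∈ ln Q x y) (hzw : z ≠ w) :
    Kp Q z w = Kp Q x y := by
  have key : ∀ x y z : X, x ≠ y → x ≠ z → z ∈ ln Q x y → Kp Q x z = Kp Q x y :=
    fun x y z h1 h2 h3 => (eq_of_le_of_card_ge (H := Kp Q x y) (K := Kp Q x z)
      (fun k hk => ⟨hk.1, h3 k hk⟩) (h.fam.card_Kp h.two h1 h2).le).symm
  by_cases e : x = z
  · subst e
    exact key x y w hxy hzw hw
  · have e1 : Kp Q z x = Kp Q x y := (h.Kp_symm (Ne.symm e)).trans (key x y z hxy e hz)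
    exact (key z x w (Ne.symm e) hzw (by rw [ln, e1]; exact hw)).trans e1

theorem OC.ln_eq (h : OC Q) (hxy : x ≠ y) (hz : z ∈ ln Q x y) (hw : w ∈ ln Q x y) (hzw : z ≠ w) :
    ln Q z w = ln Q x y := by
  rw [ln, h.lnD hxy hz hw hzw, ln]

theorem OC.T_inf (h : OC Q) (hxy : x ≠ y) {u : G} (hx : u ∈ T Q x) (hy : u ∈ T Q y) : u = 1 :=
  h.two.faith u fun c => by
    by_cases hc : c ∈ ln Q x y
    · exact hc u ⟨hx.1, h.fam.le y u hy.1⟩
    · by_contra hn
      have hxc : x ≠ c := fun e => hc (e ▸ h.fam.left_mem_ln x y)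
      have hyc : y ≠ c := fun e => hc (e ▸ right_mem_ln x y)
      have e1 := h.ln_eq hxc (St.smul_mem (T_le_M hx) (right_mem_ln x c)) (right_mem_ln x c) hn
      have e2 := h.ln_eq hyc (St.smul_mem (T_le_M hy) (right_mem_ln y c)) (right_mem_ln y c) hn
      refine hc ?_
      rw [h.ln_eq hxc (h.fam.left_mem_ln x c) (by
        rw [← e1, e2]; exact h.fam.left_mem_ln y c) hxy]
      exact right_mem_ln x c

theorem OC.srT (h : OC Q) (x : X) : SR x (T Q x) := by
  intro u hu y hy e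
  by_contra h1
  obtain ⟨f, hf, hp⟩ := exists_prime_mem (K := T Q x ⊓ stabilizer G y)
    (ne_bot_iff_exists_ne_one.2 ⟨⟨u, hu, e⟩, fun e => h1 (congrArg Subtype.val e)⟩)
  obtain ⟨c, hc, c1, hz, hcf⟩ := h.exists_cen_commute (x := y) hp (by
    rw [h.fam.card_eq h.two y x]; exact orderOf_dvd_natCard _ hf.1.1) rfl hf.2
  have := (fam_T h.fam).conj c x f hf.1
  rw [hcf.eq, mul_inv_cancel_right] at this
  exact hp.ne_one (by rw [h.T_inf (h.cen_ne hc c1 hz hy.symm).symm hf.1 this, orderOf_one])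

theorem OC.trE (h : OC Q) (hxy : x ≠ y) (hz : z ∈ ln Q x y) (hw : w ∈ ln Q x y) :
    ∃ e ∈ E Q x y, e • z = w := by
  by_cases hzw : z = w
  · exact ⟨1, one_mem _, by rw [one_smul, hzw]⟩
  obtain ⟨f, hf, hp⟩ := exists_prime_mem (h.nsr hxy)
  obtain ⟨c, hc, hco, hcz⟩ := h.exists_cen (x := x) hp (orderOf_dvd_natCard _ hf.1)
  have c1 : c ≠ 1 := fun e => hp.ne_one (by rw [← hco, e, orderOf_one])
  have hT : c ∈ T Q x := mem_T.2 ⟨hc, fun _ => mem_M_of_commute fun d hd => hcz d hd.1⟩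
  have hne := (h.cen_ne hc c1 hcz hxy.symm).symm
  have hcy := St.smul_mem (T_le_M (y := y) hT) (right_mem_ln x y)
  obtain ⟨g, g1, g2⟩ := h.two.two hne hzw
  have hg : g ∈ M Q x y := fun b => by
    rw [← h.ln_eq hxy hz hw hzw, ← g1, ← g2, h.fam.smul_mem_ln_iff, g1, g2,
      h.ln_eq hxy hz hw hzw, h.ln_eq hxy (right_mem_ln x y) hcy hne]
  exact ⟨_, conj_mem_E_of_M h.fam hg (T_le_E (h.fam.left_mem_ln x y) hT), by
    rw [← g1, ← g2, mul_smul, mul_smul, inv_smul_smul]⟩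

theorem OC.pT (h : OC Q) (hxy : x ≠ y) (hp : p.Prime) (hd : p ∣ Nat.card (Kp Q x y)) (z : X)
    {u : G} (hu : u ∈ Q z) (hc : (orderOf u).Coprime p) : u ∈ T Q z := by
  have := Fact.mk hp
  refine mem_T.2 ⟨hu, fun w => ?_⟩
  by_cases hzw : z = w
  · exact hzw ▸ mem_M_of_fix h.fam (h.fam.le z u hu) (h.fam.le z u hu)
  let A : X → X → Subgroup G := fun a b => closure {d | d ∈ Kp Q a b ∧ d ^ p = 1}
  have le : ∀ a b, A a b ≤ Kp Q a b := fun a b => (closure_le _).2 fun d hd => hd.1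
  refine mem_St_of fun c hc' => h.fix_fun A (fun a b _ => le a b) (fun g a b _ d hd => ?_)
    (fun a b hab => closure_mono fun d hd => ⟨h.Kp_symm hab ▸ hd.1, hd.2⟩)
    (fun a b c _ _ hle => closure_mono fun d hd => ⟨hle (subset_closure hd), hd.2⟩) hzw ?_
    fun a ha => ?_
  · induction hd using closure_induction with
    | mem d hd => exact subset_closure ⟨conj_mem_Kp h.fam g hd.1, by
        rw [conj_pow, hd.2, mul_one, mul_inv_cancel]⟩
    | one => simp
    | mul a b _ _ ha hb => simpa [mul_assoc] using mul_mem ha hb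
    | inv a _ ha => simpa [mul_assoc] using inv_mem ha
  · obtain ⟨f, hf⟩ := exists_prime_orderOf_dvd_card' (G := Kp Q z w) p
      (by rwa [h.fam.card_Kp h.two hxy hzw])
    rw [← orderOf_coe] at hf
    refine ne_bot_iff_exists_ne_one.2 ⟨⟨f, subset_closure ⟨f.2, by rw [← hf, pow_orderOf_eq_one]⟩⟩,
      fun e => hp.ne_one ?_⟩
    rw [← hf, show (f : G) = 1 from congrArg Subtype.val e, orderOf_one]
  · have cm : Commute u a := by
      induction ha using closure_induction with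
      | mem d hd =>
        have := h.nil z
        exact GT.commute_of_coprime_of_isNilpotent hu hd.1.1
          (hc.coprime_dvd_right (orderOf_dvd_of_pow_eq_one hd.2))
      | one => exact Commute.one_right _
      | mul a b _ _ ha hb => exact ha.mul_right hb
      | inv a _ ha => exact ha.inv_right
    exact smul_fix_of_commute cm (hc' a (le z w ha))

theorem OC.geo (h : OC Q) (hxy : x ≠ y) : ∃ p, GE Q p := by
  obtain ⟨p, hp, hd⟩ := Nat.exists_prime_and_dvd (mt card_eq_one.1 (h.nsr hxy))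
  exact ⟨p, h, hp, h.lnD, fun z _ hu hc => h.pT hxy hp hd z hu hc, fun z => h.exists_cen hp (by
    rw [h.fam.card_eq h.two z x]; exact hd.trans (card_dvd_of_le inf_le_left)), h.srT, h.trE⟩

end Cfsg.Agent.KS
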