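import Mathlib
import Cfsg.Agent.KS.Basic

/-!
# The subgroup `Y` and fixed points of coprime elements
-/

set_option autoImplicit false

namespace Cfsg.Agent.KS

open Subgroup MulAction Cfsg.Agent.TT Cfsg.Agent.OT Cfsg.Agent.Perm.TT Cfsg.Agent.Perm.TwoCount
open Cfsg.Agent.Loc.Mss
open scoped commutatorElement

universe u v

variable {G : Type u} {X : Type v} [Group G] [Finite G] [MulAction G X] [Finite X]
  {Q : X → Subgroup G} {p : ℕ} {x y z w : X}

namespace Yc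

omit [Finite G] in
theorem commute_of_conj {g a b : G} (h1 : Commute a g) (h2 : Commute a (g⁻¹ * b * g)) :
    Commute a b := by
  have := (h1.mul_right h2).mul_right h1.inv_right
  rwa [show g * (g⁻¹ * b * g) * g⁻¹ = b by group] at this

omit [Finite G] in
theorem mem_St_fix {a g : G} (h : Commute g a) : g ∈ St G {c : X | a • c = c} :=
  mem_St_of fun _ hc => smul_fix_of_commute h hc

omit [Finite G] [Finite X] in
theorem zpow_fix {a b : G} (e : a • x = x) (hb : b ∈ zpowers a) : b • x = x :=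
  (zpowers_le.2 (show a ∈ stabilizer G x from e)) hb

omit [Finite G] in
theorem zpow_commute {a b d : G} (e : Commute a d) (hb : b ∈ zpowers a) : Commute b d := by
  obtain ⟨k, rfl⟩ := hb
  exact e.zpow_left k

/-- `d` fixes the line and centralizes its stabilizer in `Q z`. -/
structure P0 (Q : X → Subgroup G) (d : G) (z z' : X) : Prop where
  ne : z ≠ z'
  mem : d ∈ Kp Q z z'
  cen : ∀ q ∈ Q z, q ∈ M Q z z' → Commute d q

end Yc

open Yc

namespace GE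

variable (h : GE Q p)
include h

theorem commTK (hxy : x ≠ y) {τ d : G} (hτ : τ ∈ T Q x) (hd : d ∈ Kp Q x y) : Commute d τ :=
  (h.commTW hxy (h.fam.left_mem_ln x y) hτ (Kp_le_W hd)).symm

theorem exists_Y (hxy : x ≠ y) : ∃ u ∈ Y Q x, u ∉ T Q x := by
  classical
  have := h.nil x
  have hn : Q x ≤ 𝐍[Q x ⊓ 𝐂[T Q x]] := norm_inf (norm_of_le le_rfl)
    (norm_cent fun u hu => (fam_T h.fam).mem_norm (h.fam.le x u hu))
  have ex : ∃ n, iterCommutator (Q x ⊓ 𝐂[T Q x]) (Q x) n ≤ T Q x := by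
    obtain ⟨n, e⟩ := GT.PG.exists_iterCommutator_eq_bot_of_isNilpotent (S := Q x)
      (N := Q x ⊓ 𝐂[T Q x]) (H := Q x) inf_le_left le_rfl
    exact ⟨n, e ▸ bot_le⟩
  have h0 : Nat.find ex ≠ 0 := by
    intro e
    have h1 := Nat.find_spec ex
    rw [e] at h1
    obtain ⟨d, hd, d1⟩ := (bot_or_exists_ne_one _).resolve_left (h.nsr hxy)
    exact d1 (h.T_inf_Kp hxy (h1 ⟨hd.1, mem_cent.2 fun τ hτ => (h.commTK hxy hτ hd).symm⟩) hd)
  obtain ⟨m, hm⟩ := Nat.exists_eq_succ_of_ne_zero h0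
  have h1 := Nat.find_spec ex
  rw [hm] at h1
  obtain ⟨u, hu, hT⟩ := SetLike.not_le_iff_exists.1 (Nat.find_min ex (hm ▸ m.lt_succ_self))
  have h2 := GT.PG.iterCommutator_le hn m hu
  exact ⟨u, ⟨h2.1, fun τ hτ => (mem_cent.1 h2.2 τ hτ).symm, fun q hq =>
    h1 (commutator_mem_commutator hu hq)⟩, hT⟩

theorem comm_mem {q u : G} (hq : q ∈ Q x) (hu : u ∈ Y Q x) : ⁅q, u⁆ ∈ T Q x := by
  rw [← commutatorElement_inv]
  exact inv_mem (hu.2.2 q hq)

theorem mem_T_of_Y (hxy : x ≠ y) {u : G} (hu : u ∈ Y Q x) (hM : u ∈ M Q x y) : u ∈ T Q x := by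
  refine mem_T.2 ⟨hu.1, fun z => ?_⟩
  by_cases e : z = x
  · rw [e]; exact mem_M_of_fix h.fam (h.fam.le x u hu.1) (h.fam.le x u hu.1)
  obtain ⟨q, hq, rfl⟩ := h.tr x y z hxy.symm e
  have := conj_mem_M h.fam q (mul_mem (T_le_M (y := y) (h.comm_mem (inv_mem hq) hu)) hM)
  rwa [h.fam.le x q hq, show q * (⁅q⁻¹, u⁆ * u) * q⁻¹ = u by
    simp only [commutatorElement_def]; group] at this

theorem comm_comm (hxy : x ≠ y) {d u τ : G} (hd : d ∈ Kp Q x y) (hu : u ∈ Y Q x)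
    (hτ : τ ∈ T Q x) : Commute ⁅d, u⁆ τ := by
  have h1 := h.commTK hxy hτ hd
  have h2 := hu.2.1 τ hτ
  exact ((h1.mul_left h2).mul_left h1.inv_left).mul_left h2.inv_left

theorem comm_mul_left (hxy : x ≠ y) {d d' u : G} (hd : d ∈ Kp Q x y) (hd' : d' ∈ Kp Q x y)
    (hu : u ∈ Y Q x) : ⁅d * d', u⁆ = ⁅d, u⁆ * ⁅d', u⁆ := by
  have h1 := h.comm_mem hd'.1 hu
  have e : ⁅d * d', u⁆ = d * ⁅d', u⁆ * d⁻¹ * ⁅d, u⁆ := by
    simp only [commutatorElement_def]; group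
  rw [e, (h.commTK hxy h1 hd).eq, mul_inv_cancel_right, (h.comm_comm hxy hd hu h1).eq]

theorem comm_mul_right (hxy : x ≠ y) {d u u' : G} (hd : d ∈ Kp Q x y) (hu : u ∈ Y Q x)
    (hu' : u' ∈ Y Q x) : ⁅d, u * u'⁆ = ⁅d, u⁆ * ⁅d, u'⁆ := by
  have _ := hxy
  have e : ⁅d, u * u'⁆ = ⁅d, u⁆ * (u * ⁅d, u'⁆ * u⁻¹) := by
    simp only [commutatorElement_def]; group
  rw [e, (hu.2.1 _ (h.comm_mem hd.1 hu')).eq, mul_inv_cancel_right]

theorem comm_inv_left (hxy : x ≠ y) {d u : G} (hd : d ∈ Kp Q x y) (hu : u ∈ Y Q x) :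
    ⁅d⁻¹, u⁆ = ⁅d, u⁆⁻¹ := by
  refine eq_inv_of_mul_eq_one_left ?_
  rw [← h.comm_mul_left hxy (inv_mem hd) hd hu, inv_mul_cancel, commutatorElement_one_left]

theorem comm_inv_right (hxy : x ≠ y) {d u : G} (hd : d ∈ Kp Q x y) (hu : u ∈ Y Q x) :
    ⁅d, u⁻¹⁆ = ⁅d, u⁆⁻¹ := by
  refine eq_inv_of_mul_eq_one_left ?_
  rw [← h.comm_mul_right hxy hd (inv_mem hu) hu, inv_mul_cancel, commutatorElement_one_right]

/-- An element of `Kp Q x y` fixing `u • y` commutes with `u`. -/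
theorem commute_of_fix (hxy : x ≠ y) {d u : G} (hd : d ∈ Kp Q x y) (hu : u ∈ Y Q x)
    (e : d • u • y = u • y) : Commute d u := by
  refine commutatorElement_eq_one_iff_commute.1 (h.srT x _ (h.comm_mem hd.1 hu) (u • y)
    (fun f => hxy (MulAction.injective u ((h.fam.le x u hu.1).trans f.symm))) ?_)
  rw [commutatorElement_def, mul_smul, mul_smul, mul_smul, inv_smul_smul,
    show d⁻¹ • y = y from (inv_mem hd).2, e]

theorem not_mem_ln (hxy : x ≠ y) {u : G} (hu : u ∈ Y Q x) (hT : u ∉ T Q x) :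
    u • y ∉ ln Q x y := fun e => hT (h.mem_T_of_Y hxy hu (h.mem_M_of hxy (by
  rw [h.fam.le x u hu.1]; exact h.fam.left_mem_ln x y) e))

theorem cY (hxy : x ≠ y) {d : G} (hd : d ∈ Kp Q x y) (hc : ∀ u ∈ Y Q x, Commute d u) : d = 1 := by
  by_contra d1
  obtain ⟨u, hu, hT⟩ := h.exists_Y hxy
  refine h.not_mem_ln hxy hu hT (h.fix_fun (fun x y => Kp Q x y ⊓ 𝐂[Y Q x])
    (fun _ _ _ => inf_le_left) (fun g x y _ a ha => ⟨conj_mem_Kp h.fam g ha.1, ?_⟩)
    (fun x y hxy a ha => ⟨h.symm hxy ▸ ha.1, ?_⟩) (fun _ _ _ _ _ e a ha => ⟨e ha, ha.2⟩) hxy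
    (fun e => d1 (mem_bot.1 (e ▸ ⟨hd, mem_cent.2 fun u hu => (hc u hu).symm⟩)))
    fun a ha => smul_fix_of_commute (mem_cent.1 ha.2 u hu) ha.1.2)
  · refine mem_cent.2 fun r hr => ?_
    have := congrArg (fun s => g * s * g⁻¹) (mem_cent.1 ha.2 _ ((fam_Y h.fam).conj_inv rfl hr))
    simpa [mul_assoc] using this
  · obtain ⟨e, he, ex⟩ := h.trE hxy (h.fam.left_mem_ln x y) (right_mem_ln x y)
    exact mem_cent.2 fun r hr => (commute_of_conj (h.commEW hxy he (Kp_le_W ha.1)).symm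
      (mem_cent.1 ha.2 _ ((fam_Y h.fam).conj_inv ex hr)).symm).symm

theorem Kp_comm (hxy : x ≠ y) {d d' : G} (hd : d ∈ Kp Q x y) (hd' : d' ∈ Kp Q x y) :
    Commute d d' := by
  have m1 := mul_mem hd hd'
  have m2 := mul_mem m1 (inv_mem hd)
  refine commutatorElement_eq_one_iff_commute.1 (h.cY hxy (mul_mem m2 (inv_mem hd'))
    fun u hu => commutatorElement_eq_one_iff_commute.1 ?_)
  rw [commutatorElement_def d d', h.comm_mul_left hxy m2 (inv_mem hd') hu, h.comm_mul_left hxy m1 (inv_mem hd) hu,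
    h.comm_mul_left hxy hd hd' hu, h.comm_inv_left hxy hd hu, h.comm_inv_left hxy hd' hu,
    (h.comm_comm hxy hd hu (h.comm_mem hd'.1 hu)).eq]
  group

/-- `C_{Q x}(a)` is transitive on the fixed points of `a` other than `x`. -/
theorem fix_tr {a : G} (ha : (orderOf a).Coprime p) (hx : a • x = x) {b c : X} (hb : b ≠ x)
    (hc : c ≠ x) (eb : a • b = b) (ec : a • c = c) : ∃ u ∈ Q x, Commute u a ∧ u • b = c := by
  have := Fact.mk h.prime
  obtain ⟨u, hu, e⟩ := h.tr x b c hb hc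
  obtain ⟨k, hk, hm⟩ := GT.CopAct.exists_centralizer_inv_mul_mem (A := zpowers a) (K := Kp Q x b)
    (norm_inf (fun g hg => h.fam.mem_norm (zpow_fix hx hg))
      (norm_of_le fun g hg => zpow_fix eb hg))
    (GT.CopAct.coprime_of_isPGroup_right (by rwa [Nat.card_zpowers]) (h.isPGroup_Kp hb.symm))
    (Or.inl (GT.CopAct.isSolvable_zpowers a)) (g := u) fun g hg =>
      ⟨(Q x).mul_mem ((Q x).inv_mem hu) (h.fam.conj' (zpow_fix hx hg) hu), by
        show _ • b = b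
        rw [mul_smul, mul_smul, mul_smul, zpow_fix eb (inv_mem hg), e, zpow_fix ec hg, ← e,
          inv_smul_smul]⟩
  refine ⟨k, ?_, (mem_cent.1 hk a (mem_zpowers a)).symm, ?_⟩
  · simpa using mul_mem hu hm.1
  · have : (u⁻¹ * k) • b = b := hm.2
    rwa [mul_smul, inv_smul_eq_iff, e] at this

theorem fix_fix (hxy : x ≠ y) {a : G} (ha : (orderOf a).Coprime p) (h1 : a ≠ 1) (hx : a • x = x)
    (hy : a • y = y) {d : G} (hd : d ∈ Kp Q x y) (hc : Commute d a) {c : X} (e : a • c = c) :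
    d • c = c := by
  refine h.ind {c : X | a • c = c} (fun e => h1 (h.two.faith a fun c =>
    (e ▸ Set.mem_univ c : c ∈ {c : X | a • c = c}))) (fun z hz b hb c hc hbz hcz => ?_) x hx y hy
    hxy d hd (mem_St_fix hc) c e
  obtain ⟨u, hu, e1, e2⟩ := h.fix_tr ha hz hbz hcz hb hc
  exact ⟨u, hu, mem_St_fix e1, e2⟩

theorem ca_fix {a : G} (ha : CA Q x y a) {c : X} (e : a • c = c) : c ∈ ln Q x y := by
  obtain ⟨k, hk, ho, -⟩ := h.cenp x
  exact fun d hd => h.fix_fix ha.ne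
    (ha.cop.coprime_dvd_right (ho ▸ orderOf_dvd_natCard _ hk)) ha.ne_one ha.fx ha.fy hd
    (ha.cen d hd).symm e

/-- The line through `x` and `y` is the only line through `x` stabilized by `a`. -/
theorem ca_line {a : G} (ha : CA Q x y a) (hxz : x ≠ z) (hM : a ∈ M Q x z) : z ∈ ln Q x y := by
  have hl : zpowers a ≤ M Q x z := zpowers_le.2 hM
  obtain ⟨k, hk, e⟩ := GT.CopAct.glauberman_exists_fixed (A := zpowers a) (K := Q x ⊓ M Q x z)
    (norm_inf (fun g hg => h.fam.mem_norm (zpow_fix ha.fx hg)) (norm_of_le hl))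
    (by rw [Nat.card_zpowers]; exact ha.cop.coprime_dvd_right (card_dvd_of_le inf_le_left))
    (Or.inl (GT.CopAct.isSolvable_zpowers a)) (ω := z) fun g hg => by
      obtain ⟨u, h1, h2, h3⟩ := h.trM hxz (h.fam.left_mem_ln x z) (right_mem_ln x z)
        (St.smul_mem (hl hg) (right_mem_ln x z)) hxz.symm
        fun f => hxz (MulAction.injective g ((zpow_fix ha.fx hg).trans f.symm))
      exact ⟨u, ⟨h1, h2⟩, h3.symm⟩
  have n1 : x ≠ k • z := fun f => hxz (MulAction.injective k ((h.fam.le x k hk.1).trans f))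
  rw [← h.ln_eq ha.ne (h.fam.left_mem_ln x y) (h.ca_fix ha (e a (mem_zpowers a))) n1,
    h.ln_eq hxz (h.fam.left_mem_ln x z) (St.smul_mem hk.2 (right_mem_ln x z)) n1]
  exact right_mem_ln x z

theorem p0_symm {d : G} {z' : X} (s : P0 Q d z z') : P0 Q d z' z := by
  obtain ⟨e, he, ex⟩ := h.trE s.ne (h.fam.left_mem_ln z z') (right_mem_ln z z')
  have hM := h.E_le_M s.ne he
  refine ⟨s.ne.symm, h.symm s.ne ▸ s.mem, fun q hq hm => commute_of_conj
    (h.commEW s.ne he (Kp_le_W s.mem)).symm (s.cen _ (h.fam.conj_inv ex hq) ?_)⟩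
  rw [M, h.ln_symm s.ne] at hm
  exact mul_mem (mul_mem (inv_mem hM) hm) hM

theorem p0_tr {a : G} (ha : CA Q x y a) {d : G} {z' c : X} (s : P0 Q d z z') (hc : c ≠ z)
    (e : d • c = c) : ∃ u ∈ Q z, Commute d u ∧ u • z' = c := by
  obtain ⟨g, gz, gz'⟩ := h.two.two ha.ne s.ne
  have hb := CA.conj h.fam ha h.two g
  rw [gz, gz'] at hb
  generalize g * a * g⁻¹ = b at hb
  obtain ⟨u, hu, rfl⟩ := h.tr z z' c s.ne.symm hc
  have m : u⁻¹ * d * u ∈ Kp Q z z' := ⟨(Q z).mul_mem ((Q z).mul_mem ((Q z).inv_mem hu) s.mem.1) hu, by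
    show _ • z' = z'
    rw [mul_smul, mul_smul, e, inv_smul_smul]⟩
  have hC : zpowers b ≤ centralizer {d} := fun k hk =>
    mem_centralizer_singleton_iff.2 (zpow_commute (hb.cen d s.mem) hk)
  obtain ⟨k, hk, f⟩ := GT.CopAct.glauberman_exists_fixed (A := zpowers b)
    (K := Q z ⊓ centralizer {d})
    (norm_inf (fun g hg => h.fam.mem_norm (zpow_fix hb.fx hg)) (norm_of_le hC))
    (by rw [Nat.card_zpowers]; exact hb.cop.coprime_dvd_right (card_dvd_of_le inf_le_left))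
    (Or.inl (GT.CopAct.isSolvable_zpowers b)) (ω := u • z') fun r hr => by
      refine ⟨r * u * r⁻¹ * u⁻¹, ⟨(Q z).mul_mem (h.fam.conj' (zpow_fix hb.fx hr) hu) ((Q z).inv_mem hu), ?_⟩,
        ?_⟩
      · rw [show r * u * r⁻¹ * u⁻¹ = r * (u * r⁻¹ * u⁻¹) by group]
        refine mul_mem (hC hr) (mem_centralizer_singleton_iff.2 ?_)
        have := congrArg (fun s => u * s * u⁻¹) (zpow_commute (hb.cen _ m) (inv_mem hr)).eq
        simpa [mul_assoc] using this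
      · rw [mul_smul, inv_smul_smul, mul_smul, zpow_fix hb.fy (inv_mem hr), mul_smul]
  obtain ⟨r, h1, h2, h3⟩ := h.trM s.ne (h.fam.left_mem_ln z z') (right_mem_ln z z')
    (h.ca_fix hb (f b (mem_zpowers b))) s.ne.symm
    fun f => hc (MulAction.injective k (f.trans (h.fam.le z k hk.1).symm))
  refine ⟨k⁻¹ * r, mul_mem (inv_mem hk.1) h1, Commute.mul_right (Commute.inv_right ?_)
    (s.cen r h1 h2), by rw [mul_smul, h3, inv_smul_smul]⟩
  exact (mem_centralizer_singleton_iff.1 hk.2).symm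

theorem p0_next {a : G} (ha : CA Q x y a) {d : G} {z' c : X} (s : P0 Q d z z') (hc : c ≠ z)
    (e : d • c = c) : P0 Q d z c := by
  obtain ⟨u, hu, h1, rfl⟩ := h.p0_tr ha s hc e
  refine ⟨hc.symm, ⟨s.mem.1, e⟩, fun q hq hm => commute_of_conj h1
    (s.cen _ (mul_mem (mul_mem (inv_mem hu) hq) hu) ?_)⟩
  have := conj_mem_M h.fam u⁻¹ hm
  rwa [inv_inv, inv_smul_smul, h.fam.le z _ (inv_mem hu)] at this

theorem ca_D0 {a : G} (ha : CA Q x y a) {d : G} (hd : d ∈ Kp Q x y) (h1 : d ≠ 1)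
    (hz : ∀ q ∈ Q x, q ∈ M Q x y → Commute d q) {c : X} (e : d • c = c) : c ∈ ln Q x y := by
  have s : P0 Q d x y := ⟨ha.ne, hd, hz⟩
  intro k hk
  refine h.ind {c : X | d • c = c} (fun e => h1 (h.two.faith d fun c =>
    (e ▸ Set.mem_univ c : c ∈ {c : X | d • c = c}))) (fun z hz b hb c hc hbz hcz => ?_) x
    (h.fam.le x d hd.1) y hd.2 ha.ne k hk (mem_St_fix (hz k hk.1 (W_le_M (Kp_le_W hk))).symm) c e
  obtain ⟨z', s'⟩ : ∃ z', P0 Q d z z' := by
    by_cases f : z = x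
    · exact ⟨y, f ▸ s⟩
    · exact ⟨x, h.p0_symm (h.p0_next ha s f hz)⟩
  obtain ⟨u, hu, c1, rfl⟩ := h.p0_tr ha s' hbz hb
  obtain ⟨r, hr, c2, rfl⟩ := h.p0_tr ha s' hcz hc
  exact ⟨r * u⁻¹, mul_mem hr (inv_mem hu), mem_St_fix (c2.mul_right c1.inv_right).symm, by
    rw [mul_smul, inv_smul_smul]⟩

theorem ca_cu {a : G} (ha : CA Q x y a) {d u : G} (hd : d ∈ Kp Q x y) (hu : u ∈ Y Q x)
    (hT : u ∉ T Q x) (hc : Commute d u) : d = 1 := by
  by_contra d1
  have := h.nil x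
  obtain ⟨n, e⟩ := GT.PG.exists_iterCommutator_eq_bot_of_isNilpotent (S := Q x)
    (N := Kp Q x y ⊓ centralizer {u}) (H := Q x ⊓ M Q x y) (inf_le_left.trans inf_le_left)
    inf_le_left
  obtain ⟨k, ⟨hk, hk'⟩, k1⟩ := (bot_or_exists_ne_one _).resolve_left
    (GT.PG.inf_centralizer_ne_bot_of_iterCommutator e (norm_of_forall_cj_le fun g hg =>
      cj_le_iff.2 fun r hr => ⟨h.conj_Kp_of_M ha.ne hg.2 hr.1, by
        have c1 : Commute r (g⁻¹ * u * g) := by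
          rw [show g⁻¹ * u * g = ⁅g⁻¹, u⁆ * u by simp only [commutatorElement_def]; group]
          exact (h.commTK ha.ne (h.comm_mem (inv_mem hg.1) hu) hr.1).mul_right
            (mem_centralizer_singleton_iff.1 hr.2)
        refine mem_centralizer_singleton_iff.2 ?_
        simpa [mul_assoc] using congrArg (fun s => g * s * g⁻¹) c1.eq⟩)
      fun e => d1 (mem_bot.1 (e ▸ ⟨hd, mem_centralizer_singleton_iff.2 hc⟩)))
  exact h.not_mem_ln ha.ne hu hT (h.ca_D0 ha hk.1 k1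
    (fun q h1 h2 => (mem_cent.1 hk' q ⟨h1, h2⟩).symm)
    (smul_fix_of_commute (mem_centralizer_singleton_iff.1 hk.2).symm hk.1.2))

end GE

end Cfsg.Agent.KS
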