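import Mathlib
import Cfsg.Agent.KS.Yc

/-! No involution fixing two points `x`, `y` centralizes `Kp Q x y`: a double count. -/

set_option autoImplicit false
set_option linter.unusedSectionVars false

namespace Cfsg.Agent.KS

open Subgroup MulAction Cfsg.Agent.TT Cfsg.Agent.OT Cfsg.Agent.Perm.TT Cfsg.Agent.Perm.TwoCount
open scoped commutatorElement

universe u v

theorem dcount_le {α β : Type*} [Finite α] [Finite β] {A : Set α} {B : Set β} (S : α → β → Prop) {r t : ℕ}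
    (h1 : ∀ x ∈ A, r ≤ {y | y ∈ B ∧ S x y}.ncard) (h2 : ∀ y ∈ B, {x | x ∈ A ∧ S x y}.ncard ≤ t) :
    A.ncard * r ≤ B.ncard * t := by
  classical
  rw [Set.ncard_eq_toFinset_card A A.toFinite, Set.ncard_eq_toFinset_card B B.toFinite]
  refine Finset.card_mul_le_card_mul S (fun x hx => ?_) (fun y hy => ?_)
  · refine (h1 x (by simpa using hx)).trans (le_of_eq ?_)
    rw [← Set.ncard_coe_finset]
    congr 1; ext y; simp
  · refine le_trans (le_of_eq ?_) (h2 y (by simpa using hy))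
    rw [← Set.ncard_coe_finset]
    congr 1; ext x; simp

theorem ncard_pairs {α β : Type*} [Finite α] [Finite β] {A : Set α} {B : α → Set β} {n : ℕ}
    (h : ∀ a ∈ A, (B a).ncard = n) : {q : α × β | q.1 ∈ A ∧ q.2 ∈ B q.1}.ncard = A.ncard * n := by
  rw [← mul_one (Set.ncard _)]
  refine (dcount A.toFinite (Set.toFinite _) (fun a q => q.1 = a) (fun a ha => ?_) fun q hq => ?_).symm
  · rw [← h a ha, ← Set.ncard_image_of_injective (B a) (Prod.mk_right_injective a)]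
    congr 1
    ext ⟨c, b⟩
    refine ⟨?_, ?_⟩
    · rintro ⟨h1, rfl⟩
      exact ⟨b, h1.2, rfl⟩
    · rintro ⟨b', hb, e⟩
      cases e
      exact ⟨⟨ha, hb⟩, rfl⟩
  · exact Set.ncard_eq_one.2 ⟨q.1, Set.eq_singleton_iff_unique_mem.2 ⟨⟨hq.1, rfl⟩, fun a ha => ha.2.symm⟩⟩

variable {G : Type u} {X : Type v} [Group G] [Finite G] [MulAction G X] [Finite X]
  {Q : X → Subgroup G} {p : ℕ} {x y z w : X}

namespace GE

variable (h : GE Q p)
include h

theorem conj_Y {t u : G} (hx : t • x = x) (hu : u ∈ Y Q x) : t * u * t⁻¹ ∈ Y Q x := (fam_Y h.fam).conj' hx hu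

/-- An involution fixing `x` and `y` stabilizes the line through `x` and `u u^t y`. -/
theorem stab_line (hxy : x ≠ y) {t u : G} (ht : t * t = 1) (hx : t • x = x) (hy : t • y = y) (hu : u ∈ Y Q x) :
    x ≠ (u * (t * u * t⁻¹)) • y ∧ t ∈ M Q x ((u * (t * u * t⁻¹)) • y) := by
  have h1 := h.conj_Y hx hu
  have h2 : x ≠ (u * (t * u * t⁻¹)) • y := fun e =>
    hxy (smul_left_cancel _ ((h.fam.le x _ (mul_mem hu.1 h1.1)).trans e))
  refine ⟨h2, h.mem_M_of h2 (hx.symm ▸ h.fam.left_mem_ln _ _) ?_⟩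
  have h3 : t * (u * (t * u * t⁻¹)) = ⁅t * u * t⁻¹, u⁆ * (u * (t * u * t⁻¹)) * t := by
    calc _ = t * u * (t * u * t⁻¹) := by group
      _ = t * u * t⁻¹ * (t * t) * u * t⁻¹ := by group
      _ = _ := by rw [ht, commutatorElement_def, inv_eq_of_mul_eq_one_right ht]; group
  rw [← mul_smul, h3, mul_smul _ t, hy, mul_smul ⁅_, _⁆]
  exact St.smul_mem (T_le_M (h.comm_mem h1.1 hu)) (right_mem_ln _ _)

theorem ca_two (hxy : x ≠ y) {t : G} (ht : t * t = 1) (h1 : t ≠ 1) (hx : t • x = x) (hy : t • y = y)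
    (hc : ∀ d ∈ Kp Q x y, Commute t d) : CA Q x y t := ⟨hxy, h1, h.cop_two ht x, hx, hy, hc⟩

theorem ca_any {t : G} (ha : CA Q x y t) (ht : t * t = 1) (hzw : z ≠ w) (hz : t • z = z) (hw : t • w = w) :
    CA Q z w t :=
  h.ca_two hzw ht ha.ne_one hz hw (h.lnD ha.ne (h.ca_fix ha hz) (h.ca_fix ha hw) hzw ▸ ha.cen)

theorem fix_bound {t : G} (ha : CA Q x y t) (ht : t * t = 1) :
    Nat.card (Kp Q x y) * ((fixedBy X t).ncard - 1) ≤ (ln Q x y).ncard - 1 := by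
  have hxy := ha.ne
  obtain ⟨u, hu, uT⟩ := h.exists_Y hxy
  have u1 := h.conj_Y ha.fx hu
  obtain ⟨h1, h2⟩ := h.stab_line hxy ht ha.fx ha.fy hu
  have h3 : u * (t * u * t⁻¹) ∈ T Q x := h.mem_T_of_Y hxy (mul_mem hu u1) (h.mem_M_of hxy
    ((h.fam.le x _ (mul_mem hu.1 u1.1)).symm ▸ h.fam.left_mem_ln _ _) (h.ca_line ha h1 h2))
  have h4 : ∀ d ∈ Kp Q x y, t * ⁅d, u⁆ * t⁻¹ = ⁅d, u⁆⁻¹ := fun d hd => by
    rw [conjugate_commutatorElement, (ha.cen d hd).eq, mul_inv_cancel_right, eq_inv_iff_mul_eq_one,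
      ← inv_mul_cancel ⁅d, u⁆, mul_left_inj, eq_inv_iff_mul_eq_one, mul_eq_one_comm, ← h.comm_mul_right hxy hd hu u1]
    exact commutatorElement_eq_one_iff_commute.2 (h.commTW hxy (h.fam.left_mem_ln _ _) h3 (Kp_le_W hd)).symm
  have h5 : Set.InjOn (fun q : G × X => ⁅q.1, u⁆ • q.2) ((Kp Q x y : Set G) ×ˢ (fixedBy X t \ {x})) := by
    rintro ⟨d, c⟩ ⟨hd, hc⟩ ⟨d', c'⟩ ⟨hd', hc'⟩ e
    have d1 : d'⁻¹ * d ∈ Kp Q x y := mul_mem (inv_mem hd') hd
    have e1 : ⁅d'⁻¹ * d, u⁆ • c = c' := by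
      rw [h.comm_mul_left hxy (inv_mem hd') hd hu, h.comm_inv_left hxy hd' hu, mul_smul,
        show ⁅d, u⁆ • c = ⁅d', u⁆ • c' from e, inv_smul_smul]
    have b1 := h.comm_mem d1.1 hu
    have e2 : (⁅d'⁻¹ * d, u⁆ * ⁅d'⁻¹ * d, u⁆) • c = c := by
      rw [mul_smul, e1, ← show t • c' = c' from hc'.1, ← e1, ← mul_smul t, ← inv_mul_cancel_right (t * _) t, h4 _ d1,
        mul_smul, smul_inv_smul, show t • c = c from hc.1]
    have e3 := h.eq_one_of_sq b1.1 (h.srT x _ (mul_mem b1 b1) c hc.2 e2)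
    rw [e3, one_smul] at e1
    exact Prod.ext (inv_mul_eq_one.1 (h.ca_cu ha d1 hu uT (commutatorElement_eq_one_iff_commute.1 e3))).symm e1
  have h6 : (fun q : G × X => ⁅q.1, u⁆ • q.2) '' ((Kp Q x y : Set G) ×ˢ (fixedBy X t \ {x})) ⊆ ln Q x y \ {x} := by
    rintro _ ⟨⟨d, c⟩, ⟨hd, hc⟩, rfl⟩
    have b1 := h.comm_mem hd.1 hu
    exact ⟨St.smul_mem (T_le_M b1) (h.ca_fix ha hc.1), fun e => hc.2 (smul_left_cancel _
      ((show ⁅d, u⁆ • c = x from e).trans (h.fam.le x _ b1.1).symm))⟩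
  have h7 := Set.ncard_le_ncard h6
  rwa [h5.ncard_image, Set.ncard_prod, Set.ncard_sdiff_singleton_of_mem (h.fam.left_mem_ln x y),
    Set.ncard_sdiff_singleton_of_mem (show x ∈ fixedBy X t from ha.fx)] at h7

/-- The conjugates of `t` fixing `x` and stabilizing a line that misses `x`. -/
theorem line_bound {t : G} (ha : CA Q x y t) (ht : t * t = 1) (hzw : z ≠ w) (hx : x ∉ ln Q z w) :
    {s | (IsConj t s ∧ s • x = x) ∧ s ∈ M Q z w}.ncard ≤
      {s | IsConj t s ∧ s • x = x ∧ s • y = y}.ncard * (Nat.card (Kp Q x y) - 1) := by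
  have key : ∀ s, IsConj t s → s * s = 1 ∧ ∃ a b, CA Q a b s := fun s hs => by
    obtain ⟨g, rfl⟩ := isConj_iff.1 hs
    exact ⟨by rw [conj_mul, ht, mul_one, mul_inv_cancel], _, _, ha.conj h.fam h.two g⟩
  rw [← mul_one (Set.ncard _)]
  refine dcount_le (fun s r => ∃ u ∈ Q x, u * s * u⁻¹ = r) (fun s hs => ?_) fun r hr => ?_
  · obtain ⟨-, a, b, hc⟩ := key s hs.1.1
    obtain ⟨c, cx, hc'⟩ : ∃ c, c ≠ x ∧ s • c = c := by
      by_cases e : a = x
      exacts [⟨b, e ▸ hc.ne.symm, hc.fy⟩, ⟨a, e, hc.fx⟩]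
    obtain ⟨u, hu, e⟩ := h.tr x c y cx ha.ne.symm
    refine (Set.ncard_pos (Set.toFinite _)).2 ⟨u * s * u⁻¹, ⟨hs.1.1.trans (isConj_iff.2 ⟨u, rfl⟩), ?_, ?_⟩, u, hu, rfl⟩
    · rw [← h.fam.le x u hu]
      exact conj_smul_iff.2 hs.1.2
    · rw [← e]
      exact conj_smul_iff.2 hc'
  rcases Set.eq_empty_or_nonempty {s | s ∈ {s | (IsConj t s ∧ s • x = x) ∧ s ∈ M Q z w} ∧ ∃ u ∈ Q x, u * s * u⁻¹ = r}
    with e | ⟨s, hs, u, hu, e⟩
  · rw [e, Set.ncard_empty]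
    exact Nat.zero_le _
  obtain ⟨s2, a, b, hc⟩ := key s hs.1.1
  have xz : x ≠ z := fun e => hx (e ▸ h.fam.left_mem_ln _ _)
  have n1 : IsPGroup p (Q x ⊓ M Q z w : Subgroup G) := h.isPGroup_of inf_le_left fun τ hτ hT => by
    refine h.srT x τ hT z xz.symm (by_contra fun e => hx ?_)
    have h1 := h.fam.left_mem_ln z w
    rw [← h.ln_eq hzw (St.smul_mem hτ.2 h1) h1 e,
      h.ln_eq xz (St.smul_mem (T_le_M hT) (right_mem_ln _ _)) (right_mem_ln _ _) e]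
    exact h.fam.left_mem_ln _ _
  obtain ⟨c, hc1, hc2⟩ := h.exists_fix hzw n1 inf_le_right
  have xc : x ≠ c := fun e => hx (e ▸ hc1)
  have sc : s • c ≠ c := fun e => by
    obtain ⟨c', c1, c2, c3⟩ := h.second hzw s2 hs.2 hc1 e
    exact hx (h.ln_eq hzw c1 hc1 c2 ▸ h.ca_fix (h.ca_any hc s2 c2 c3 e) hs.1.2)
  have n2 : Q x ⊓ M Q z w < Kp Q x c := lt_of_le_of_ne (fun n hn => ⟨hn.1, hc2 n hn⟩) fun e => hx (by
    have h1 : s • c ∈ ln Q x c := fun k hk => by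
      rw [← e] at hk
      have h2 := hc2 (s⁻¹ * k * s)
        (mem_inf.2 ⟨h.fam.conj_inv hs.1.2 hk.1, mul_mem (mul_mem (inv_mem hs.2) hk.2) hs.2⟩)
      rwa [mul_smul, mul_smul, inv_smul_eq_iff] at h2
    rw [← h.ln_eq hzw (St.smul_mem hs.2 hc1) hc1 sc, h.ln_eq xc h1 (right_mem_ln _ _) sc]
    exact h.fam.left_mem_ln _ _)
  have n3 := Set.ncard_lt_ncard (SetLike.coe_ssubset_coe.2 n2)
  have n4 : (Kp Q x c : Set G).ncard = Nat.card (Kp Q x y) := h.fam.card_Kp h.two ha.ne xc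
  refine Nat.le_sub_one_of_lt (lt_of_le_of_lt (Set.ncard_le_ncard_of_injOn (fun s' => s * s') ?_
    (mul_right_injective s).injOn) (n4 ▸ n3))
  rintro s' ⟨hs', u', hu', e'⟩
  refine mem_inf.2 ⟨?_, mul_mem hs.2 hs'.2⟩
  have h1 : s * s' = s * (u'⁻¹ * u) * s⁻¹ * (s * s) * (u⁻¹ * u') := by
    calc s * s' = s * u'⁻¹ * (u' * s' * u'⁻¹) * u' := by group
      _ = _ := by rw [e', ← e]; group
  rw [h1, s2, mul_one]
  exact mul_mem (h.fam.conj' hs.1.2 (mul_mem (inv_mem hu') hu)) (mul_mem (inv_mem hu) hu')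

theorem not_ca {t : G} (ha : CA Q x y t) (ht : t * t = 1) : False := by
  have hxy := ha.ne
  have h1 := h.fix_bound ha ht
  have h2 := h.two.t2.fix_two (X := {s | IsConj t s}) (f := (fixedBy X t).ncard)
    (fun g _ s hs => IsConj.trans hs (isConj_iff.2 ⟨g, rfl⟩))
    (fun s hs => by rw [Set.univ_inter, ncard_fix_isConj hs]) (Set.mem_univ x) (Set.mem_univ y) hxy
  have h3 : 2 ≤ (fixedBy X t).ncard := two_le_ncard ha.fx ha.fy hxy
  have cl : ∀ {a b : X}, a ≠ b → (ln Q a b)ᶜ.ncard = Nat.card X - (ln Q x y).ncard := fun hab => by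
    rw [Set.ncard_compl, h.ncard_ln hxy hab]
  have h4 := dcount_le (A := {s | IsConj t s ∧ s • x = x}) (B := {q : X × X | q.1 ∈ ({x}ᶜ : Set X) ∧ q.2 ∈ (ln Q x q.1)ᶜ})
    (fun s q => s ∈ M Q q.1 q.2) (r := (Nat.card X - (ln Q x y).ncard) * ((ln Q x y).ncard - 1))
    (fun s hs => by
      obtain ⟨g, rfl⟩ := isConj_iff.1 hs.1
      have s2 : g * t * g⁻¹ * (g * t * g⁻¹) = 1 := by rw [conj_mul, ht, mul_one, mul_inv_cancel]
      have hc := ha.conj h.fam h.two g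
      generalize g * t * g⁻¹ = s at hs s2 hc
      obtain ⟨c, cx, hc'⟩ : ∃ c, x ≠ c ∧ s • c = c := by
        by_cases e : g • x = x
        exacts [⟨_, e ▸ hc.ne, hc.fy⟩, ⟨_, Ne.symm e, hc.fx⟩]
      replace hc := h.ca_any hc s2 cx hs.2 hc'
      have k1 : ∀ a ∈ (ln Q x c)ᶜ, a ≠ s • a := fun a ha e => ha (h.ca_fix hc e.symm)
      rw [← cl cx, ← ncard_pairs (A := (ln Q x c)ᶜ) (B := fun a => ln Q a (s • a) \ {a}) fun a ha => by
        rw [Set.ncard_sdiff_singleton_of_mem (h.fam.left_mem_ln _ _), h.ncard_ln hxy (k1 a ha)]]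
      refine Set.ncard_le_ncard ?_
      rintro ⟨a, b⟩ ⟨ha, hb⟩
      have xa : x ≠ a := fun e => ha (e ▸ h.fam.left_mem_ln _ _)
      have k2 := h.ln_eq (k1 a ha) (h.fam.left_mem_ln _ _) hb.1 (Ne.symm hb.2)
      have k3 : s ∈ M Q a b := by
        rw [M, k2]
        exact h.mem_M_swap s2 (k1 a ha).symm
      refine ⟨⟨xa.symm, fun e => ha (h.ca_line hc xa ?_)⟩, k3⟩
      rwa [M, ← h.ln_eq xa (right_mem_ln _ _) e (Ne.symm hb.2)])
    fun q hq => h.line_bound ha ht (fun e => hq.2 (e ▸ right_mem_ln _ _)) fun e => hq.2 (by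
      have k1 : q.1 ≠ q.2 := fun e => hq.2 (e ▸ right_mem_ln _ _)
      rw [h.ln_eq k1 e (h.fam.left_mem_ln _ _) (Ne.symm hq.1)]
      exact right_mem_ln _ _)
  rw [ncard_pairs (A := {x}ᶜ) (B := fun a => (ln Q x a)ᶜ) fun a ha => cl (Ne.symm ha), ncard_compl_one] at h4
  rw [Set.ncard_univ] at h2
  have h5 : 0 < {s | IsConj t s ∧ s • x = x}.ncard := (Set.ncard_pos (Set.toFinite _)).2 ⟨t, IsConj.refl t, ha.fx⟩
  have h6 : 0 < Nat.card X - (ln Q x y).ncard := by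
    obtain ⟨c, hc⟩ := h.exists_notMem hxy
    rw [← cl hxy]
    exact (Set.ncard_pos (Set.toFinite _)).2 ⟨c, hc⟩
  have h7 : 0 < Nat.card (Kp Q x y) := Nat.card_pos
  simp only [Set.mem_ofPred_eq] at h2
  generalize {s | IsConj t s ∧ s • x = x}.ncard = A at h2 h4 h5
  generalize {s | IsConj t s ∧ s • x = x ∧ s • y = y}.ncard = a at h2 h4
  generalize Nat.card X - (ln Q x y).ncard = m at h4 h6
  generalize (ln Q x y).ncard - 1 = k at h1 h4
  generalize Nat.card X - 1 = n at h2 h4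
  obtain ⟨f, hf⟩ : ∃ f, (fixedBy X t).ncard - 1 = f + 1 := ⟨(fixedBy X t).ncard - 2, by omega⟩
  obtain ⟨D, hD⟩ : ∃ D, Nat.card (Kp Q x y) = D + 1 := ⟨Nat.card (Kp Q x y) - 1, by omega⟩
  rw [hf] at h1 h2
  rw [hD] at h1 h4
  rw [Nat.add_sub_cancel] at h4
  have h8 : A * m * k ≤ A * m * ((f + 1) * D) := by
    calc A * m * k = A * (m * k) := by ring
      _ ≤ n * m * (a * D) := h4
      _ = n * a * (m * D) := by ring
      _ = _ := by rw [← h2]; ring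
  have h9 := Nat.le_of_mul_le_mul_left h8 (Nat.mul_pos h5 h6)
  nlinarith

end GE

theorem GE.two_type (h : GE Q p) : II Q p :=
  ⟨h, fun hxy _ ht hx hy hc => by_contra fun h1 => h.not_ca (h.ca_two hxy ht h1 hx hy hc) ht⟩

end Cfsg.Agent.KS
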