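import Mathlib
import Cfsg.Agent.KS.Yc
import Cfsg.Agent.TT.BGen
import Cfsg.Agent.GT.Fitting

/-!
# No involution of the two-point stabilizer centralizes `Kp Q x y`: the action on a line
-/

set_option autoImplicit false
set_option linter.unusedSectionVars false

namespace Cfsg.Agent.KS

open Subgroup MulAction Cfsg.Agent.TT Cfsg.Agent.OT Cfsg.Agent.Perm.TT Cfsg.Agent.Perm.TwoCount
open scoped commutatorElement

universe u v

variable {G : Type u} {X : Type v} [Group G] [Finite G] [MulAction G X] [Finite X]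
  {Q : X → Subgroup G} {p : ℕ} {x y z w : X}

theorem GE.even_st2 (h : GE Q p) (hxy : x ≠ y) : Even (Nat.card (st2 G x y)) := by
  by_contra ho
  obtain ⟨L, -, hZ, -, -, -, hc, -⟩ :=
    BG.psl ⟨h.two, h.even_card hxy, hxy, Nat.not_even_iff_odd.1 ho⟩ h.nreg
  obtain ⟨c, hc1, cx, cy⟩ := h.exists_third hxy
  have h1 : Nat.card (st2 L x y) ≤ Nat.card ↥((ln Q x y \ {x}) \ {y}) :=
    Nat.card_le_card_of_injective (fun i => ⟨i.1 • c,
      ⟨St.smul_mem (mem_M_of_fix h.fam i.2.1 i.2.2) hc1,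
        fun e => cx (MulAction.injective i.1 (e.trans i.2.1.symm))⟩,
      fun e => cy (MulAction.injective i.1 (e.trans i.2.2.symm))⟩) fun i j e => by
      have e' : i.1 • c = j.1 • c := congrArg Subtype.val e
      have hm := mul_mem (inv_mem j.2) i.2
      exact Subtype.ext (inv_mul_eq_one.1 (hZ.2.2.1 _ x y c hxy cy.symm cx.symm hm.1 hm.2
        (by rw [mul_smul, e', inv_smul_smul]))).symm
  rw [Nat.card_coe_set_eq, Set.ncard_sdiff_singleton_of_mem
    (show y ∈ ln Q x y \ {x} from ⟨right_mem_ln x y, hxy.symm⟩),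
    Set.ncard_sdiff_singleton_of_mem (h.fam.left_mem_ln x y)] at h1
  have h2 := h.two_mul_ln hxy
  have h3 := two_le_ncard (h.fam.left_mem_ln x y) (right_mem_ln x y) hxy
  omega

omit [Finite X] in
theorem II.odd_cen' (h : II Q p) (hxy : x ≠ y) {g : G} (hx : g • x = x) (hy : g • y = y)
    (hc : ∀ d ∈ Kp Q x y, Commute g d) : Odd (orderOf g) := by
  by_contra ho
  obtain ⟨m, hm⟩ := Nat.not_odd_iff_even.1 ho
  have h0 := orderOf_pos g
  have hg : g ∈ st2 G x y := ⟨hx, hy⟩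
  exact pow_ne_one_of_lt_orderOf (by omega) (by omega) (h.noinv hxy (g ^ m)
    (by rw [← pow_add, ← hm, pow_orderOf_eq_one]) (pow_mem hg m).1 (pow_mem hg m).2
    fun d hd => (hc d hd).pow_left m)

theorem II.odd_cen (h : II Q p) (hxy : x ≠ y) {g : G} (hx : g • x = x) (hy : g • y = y)
    (hc : ∀ d ∈ Kp Q x y, Commute g d) : Odd (orderOf g) := h.odd_cen' hxy hx hy hc

theorem II.fpf (h : II Q p) (hxy : x ≠ y) {n : G} (hn : n * n = 1) (h1 : n ≠ 1)
    (hc : ∀ d ∈ Kp Q x y, Commute n d) (c : X) : n • c ≠ c := fun e => by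
  have := Fact.mk h.prime
  have nM : n ∈ M Q x y := mem_M_of_commute hc
  have hF : ∀ a ∈ fixedBy X n, a ∉ ln Q x y := fun a ha hl => by
    obtain ⟨b, hb, hba, e'⟩ := h.second hxy hn nM hl ha
    exact h1 (h.noinv hba.symm n hn ha e' (h.lnD hxy hl hb hba.symm ▸ hc))
  have hD : ∀ d ∈ Kp Q x y, ∀ a ∈ fixedBy X n, d • a ∈ fixedBy X n := fun d hd a ha =>
    smul_fix_of_commute (hc d hd).symm ha
  have hp : p ∣ (fixedBy X n).ncard := by
    by_contra e'
    obtain ⟨a, ha, e'⟩ := Perm.Fx.exists_fixed_of_not_dvd (h.isPGroup_Kp hxy) _ hD e'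
    exact hF a ha e'
  obtain ⟨d, hd, dc⟩ : ∃ d ∈ Kp Q x y, d • c ≠ c := by
    by_contra e'
    push Not at e'
    exact hF c e e'
  have c' := hD d hd c e
  generalize d • c = b at dc c'
  have cop : (orderOf n).Coprime p :=
    Nat.Coprime.coprime_dvd_left (orderOf_dvd_of_pow_eq_one (n := 2) (by rwa [sq]))
      ((Nat.coprime_primes Nat.prime_two h.prime).2 (h.p_ne_two x).symm)
  set U := Q c ⊓ centralizer {n} with hU
  have tr : ∀ a ∈ fixedBy X n, a ≠ c → ∃ u ∈ U, u • b = a := fun a ha ac =>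
    (h.fix_tr cop e dc ac c' ha).imp fun u hu =>
      ⟨⟨hu.1, mem_centralizer_singleton_iff.2 hu.2.1⟩, hu.2.2⟩
  have := h.nil c
  have : Group.IsNilpotent U := GT.isNilpotent_of_le (inf_le_left : U ≤ Q c)
  obtain ⟨a, ha, pa⟩ := Perm.Fx.exists_fixed_of_not_dvd (GT.isPGroup_pCoreOf p U)
    (fixedBy X n \ {c}) (fun u hu a ha => ⟨smul_fix_of_commute
      (mem_centralizer_singleton_iff.1 (GT.pCoreOf_le U hu).2) ha.1, fun e' => ha.2
        (MulAction.injective u (e'.trans (h.fam.le c u (GT.pCoreOf_le U hu).1).symm))⟩) fun e' => by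
      rw [Nat.card_coe_set_eq, Set.ncard_sdiff_singleton_of_mem (s := fixedBy X n) e] at e'
      have h2 := Nat.dvd_sub hp e'
      rw [Nat.sub_sub_self ((Set.ncard_pos (s := fixedBy X n) (Set.toFinite _)).2 ⟨c, e⟩)] at h2
      exact h.prime.ne_one (Nat.dvd_one.1 h2)
  obtain ⟨u, hu, rfl⟩ := tr a ha.1 ha.2
  have UM : U ≤ M Q c b := (GT.pCoreOf_sup_pPrimeCoreOf p U).ge.trans (sup_le
    (fun g hg => mem_M_of_fix h.fam (h.fam.le c g (GT.pCoreOf_le U hg).1) (conj_smul_iff.1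
      (pa _ ((mem_normalizer_iff.1 (GT.le_normalizer_pCoreOf U hu) g).1 hg))))
    fun g hg => T_le_M (h.pT c g (GT.pPrimeCoreOf_le U hg).1 (Nat.Coprime.coprime_dvd_left
      (orderOf_dvd_natCard _ hg) (GT.coprime_card_pPrimeCoreOf p U))))
  have FL : ∀ a ∈ fixedBy X n, a ∈ ln Q c b := fun a ha => by
    by_cases ac : a = c
    · exact ac ▸ h.fam.left_mem_ln _ b
    obtain ⟨u, hu, rfl⟩ := tr a ha ac
    exact St.smul_mem (UM hu) (right_mem_ln c b)
  obtain ⟨a, a1, a2⟩ := h.exists_fix dc.symm (h.isPGroup_Kp hxy) fun g hg =>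
    h.mem_M_of dc.symm (FL _ (hD g hg c e)) (FL _ (hD g hg b c'))
  by_cases na : n • a = a
  · exact hF a na a2
  refine hF c e ?_
  rw [← h.ln_eq hxy (St.smul_mem nM a2) a2 na,
    h.ln_eq dc.symm (St.smul_mem (mem_M_of_fix h.fam e c') a1) a1 na]
  exact h.fam.left_mem_ln c b

namespace TwoAux

/-- The group generated by `E` and the stabilizer of the line in `Q x`. -/
abbrev G1 (Q : X → Subgroup G) (x y : X) : Subgroup G := E Q x y ⊔ Q x ⊓ M Q x y

omit [Finite G] [Finite X] in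
theorem G1_le (h : GE Q p) (hxy : x ≠ y) : G1 Q x y ≤ M Q x y := sup_le (h.E_le_M hxy) inf_le_right

omit [Finite G] [Finite X] in
theorem norm_E (h : Fam Q) : M Q x y ≤ normalizer (E Q x y : Set G) := fun g hg =>
  mem_normalizer_iff.2 fun e => ⟨conj_mem_E_of_M h hg, fun he => by
    simpa [mul_assoc] using conj_mem_E_of_M h (inv_mem hg) he⟩

omit [Finite G] [Finite X] in
theorem t2 (h : GE Q p) (hxy : x ≠ y) : T2 (G1 Q x y) (ln Q x y) :=
  T2.of_base (a := x) (b := y) (fun g hg _ hc => St.smul_mem (G1_le h hxy hg) hc) fun a ha b hb hab => by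
    obtain ⟨e, he, rfl⟩ := h.trE hxy (h.fam.left_mem_ln x y) ha
    obtain ⟨u, hu, hM, e'⟩ := h.trM hxy (h.fam.left_mem_ln x y) (right_mem_ln x y)
      (St.smul_mem (inv_mem (h.E_le_M hxy he)) hb) hxy.symm fun e' => hab (inv_smul_eq_iff.1 e').symm
    exact ⟨e * u, mul_mem (mem_sup_left he) (mem_sup_right ⟨hu, hM⟩),
      by rw [mul_smul, h.fam.le x u hu], by rw [mul_smul, e', smul_inv_smul]⟩

theorem odd_st (h : II Q p) (hxy : x ≠ y) : Odd (Nat.card ((st2 G x y).subgroupOf (G1 Q x y))) := by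
  by_contra ho
  obtain ⟨⟨⟨t, ht⟩, hs⟩, t2⟩ :=
    exists_prime_orderOf_dvd_card' 2 (Nat.not_odd_iff_even.1 ho).two_dvd
  rw [← orderOf_coe, ← orderOf_coe] at t2
  change orderOf t = 2 at t2
  obtain ⟨e, he, q, hq, rfl⟩ := (Loc.Mss.mem_sup_norm (inf_le_right.trans (norm_E h.fam))).1 ht
  have key : ∀ n : ℕ, (e * q) ^ n * (q ^ n)⁻¹ ∈ E Q x y := fun n => by
    induction n with
    | zero => simp
    | succ n ih =>
      have := mul_mem ih (conj_mem_E_of_M h.fam (pow_mem hq.2 n) he)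
      simpa [pow_succ, mul_assoc] using this
  obtain ⟨m, hm⟩ := h.odd_orderOf hq.1
  have h1 := key (orderOf q)
  rw [pow_orderOf_eq_one, hm, pow_succ, pow_mul, sq, mul_self_two t2, one_pow, one_mul, inv_one,
    mul_one] at h1
  exact ne_one_two t2 (h.noinv hxy _ (mul_self_two t2) hs.1 hs.2
    fun d hd => h.commEW hxy h1 (Kp_le_W hd))

variable {B Δ : Type v} [Group B] [MulAction B Δ] {π : G1 Q x y →* B} {ι : Δ → X} {a b : Δ}

theorem bg (h : II Q p) (hxy : x ≠ y) (c : Con (G1 Q x y) (ln Q x y) π ι) (ha : ι a = x)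
    (hb : ι b = y) : BG B Δ a b :=
  ⟨c.two (t2 h.toGE hxy), c.card_pts ▸ h.even_ln hxy, fun e => hxy (by rw [← ha, e, hb]), by
    rw [← c.map_st2, ha, hb]
    exact (odd_st h hxy).of_dvd_nat (card_map_dvd _ _)⟩

theorem aff (h : II Q p) (hxy : x ≠ y) (c : Con (G1 Q x y) (ln Q x y) π ι) (ha : ι a = x)
    (hb : ι b = y) (hr : HasReg B Δ) : ∃ V, Aff Q x y V := by
  have := c.finite
  have := c.finite_pts
  have hB := bg h hxy c ha hb
  obtain ⟨V, l, hV, hl, tr, sr, cm, ex, cd⟩ := hB.two.exists_reg hr a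
  obtain rfl : 2 = l := by
    obtain ⟨u, hu⟩ := exists_prime_orderOf_dvd_card' 2 (cd ▸ hB.even : Even (Nat.card V)).two_dvd
    rw [← orderOf_coe] at hu
    exact (Nat.prime_dvd_prime_iff_eq Nat.prime_two hl).1 (hu ▸ orderOf_dvd_of_pow_eq_one (ex _ u.2))
  have inv : ∀ s : B, s * s = 1 → s ∈ V := fun s s2 => by
    obtain ⟨r, hr, e⟩ := tr a (s • a)
    have e1 : (r⁻¹ * s) • a = a := by rw [mul_smul, ← e, inv_smul_smul]
    have e2 : r⁻¹ * s * (r⁻¹ * s) = 1 := sr a _ (by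
      have := mul_mem (inv_mem hr) (hV.conj_mem _ (inv_mem hr) s)
      rwa [inv_eq_of_mul_eq_one_right s2, ← mul_assoc, ← mul_assoc, mul_assoc _ r⁻¹ s] at this)
      (by rw [mul_smul, e1, e1])
    obtain ⟨d, hd, e3⟩ := Perm.TwoCount.exists_fix (Δ := ({a}ᶜ : Set Δ)) (x := r⁻¹ * s)
      (fun d hd e' => hd (MulAction.injective _ (e'.trans e1.symm)))
      (fun d _ => by rw [← mul_smul, e2, one_smul]) (by
        rw [ncard_compl_one]
        have : Nonempty Δ := ⟨a⟩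
        exact Nat.Even.sub_odd Nat.card_pos hB.even odd_one)
    have ho : Odd (Nat.card (st2 B a d)) := hB.two.card_st2 hB.ne (Ne.symm hd) ▸ hB.odd
    have e4 : r⁻¹ * s = 1 := orderOf_eq_one_iff.1 (Nat.Coprime.eq_one_of_dvd
      (Nat.coprime_two_right.2 (ho.of_dvd_nat (orderOf_dvd_natCard _ ⟨e1, e3⟩)))
      (orderOf_dvd_of_pow_eq_one (by rwa [sq])))
    exact inv_mul_eq_one.1 e4 ▸ hr
  have lx := h.fam.left_mem_ln x y
  have ly := right_mem_ln (N := Q) x y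
  have cE : ∀ {e : G}, e ∈ E Q x y → ∀ d ∈ Kp Q x y, Commute e d := fun he d hd =>
    h.commEW hxy he (Kp_le_W hd)
  refine ⟨⟨⟨⟨{n | n ∈ E Q x y ∧ n * n = 1}, fun {n m} hn hm => ⟨mul_mem hn.1 hm.1, ?_⟩⟩,
    one_mem _, mul_one 1⟩, fun {n} hn => ⟨inv_mem hn.1, by rw [← mul_inv_rev, hn.2, inv_one]⟩⟩,
    hxy, fun _ hn => hn.1, fun _ hn => hn.2, fun g hg n hn => ⟨conj_mem_E_of_M h.fam hg hn.1,
      by rw [conj_mul, hn.2, mul_one, mul_inv_cancel]⟩, fun z hz w hw => ?_⟩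
  · have hE : n * m * (n * m) ∈ E Q x y := mul_mem (mul_mem hn.1 hm.1) (mul_mem hn.1 hm.1)
    let n' : G1 Q x y := ⟨n, mem_sup_left hn.1⟩
    let m' : G1 Q x y := ⟨m, mem_sup_left hm.1⟩
    have n2 : π n' * π n' = 1 := by rw [← map_mul, ← map_one π]; exact congrArg π (Subtype.ext hn.2)
    have m2 : π m' * π m' = 1 := by rw [← map_mul, ← map_one π]; exact congrArg π (Subtype.ext hm.2)
    have hW : n * m * (n * m) ∈ W Q x y := mem_W.2 (c.eq_one_iff (g := n' * m' * (n' * m')) |>.1 (by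
      rw [map_mul, ← sq]
      exact map_mul π n' m' ▸ ex _ (mul_mem (inv _ n2) (inv _ m2))))
    refine h.noinv hxy _ ?_ (mem_W.1 hW x lx) (mem_W.1 hW y ly) (cE hE)
    calc _ = n * m * (n * m) * n * (m * n * m) := by group
      _ = n * (n * m * (n * m)) * (m * n * m) := by rw [(h.commEW hxy hn.1 hW).eq]
      _ = (n * n) * m * n * (m * m) * n * m := by group
      _ = 1 := by rw [hn.2, hm.2, one_mul, mul_one, mul_assoc m, hn.2, mul_one, hm.2]
  · have : ((E Q x y).subgroupOf (G1 Q x y)).Normal :=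
      normal_subgroupOf_of_le_normalizer ((G1_le h.toGE hxy).trans (norm_E h.fam))
    have hE := this.map π c.surj
    have h1 : V ⊓ ((E Q x y).subgroupOf (G1 Q x y)).map π ≠ ⊥ := fun e => by
      obtain ⟨τ, hτ, -, τ1⟩ := h.exists_T x
      obtain ⟨r, hr, e1⟩ := tr a b
      let τ' : G1 Q x y := ⟨τ, mem_sup_left (T_le_E lx hτ)⟩
      have hm : π τ' ∈ ((E Q x y).subgroupOf (G1 Q x y)).map π := mem_map_of_mem π (T_le_E lx hτ)
      have e2 : π τ' * r * (π τ')⁻¹ * r⁻¹ = 1 := mem_bot.1 (e.le ⟨V.mul_mem (hV.conj_mem r hr _)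
        (V.inv_mem hr), by simpa [mul_assoc] using mul_mem hm (hE.conj_mem _ (inv_mem hm) r)⟩)
      rw [mul_inv_eq_one, mul_inv_eq_iff_eq_mul] at e2
      have e3 : π τ' • a = a := c.smul_iff.2 (ha ▸ h.fam.le x τ hτ.1)
      have e4 : π τ' • b = b := by rw [← e1, ← mul_smul, e2, mul_smul, e3]
      exact τ1 (h.srT x τ hτ y hxy.symm (hb ▸ c.smul_iff.1 e4))
    obtain ⟨z, rfl⟩ := c.exists_eq hz
    obtain ⟨w, rfl⟩ := c.exists_eq hw
    obtain ⟨_, ⟨hr, e, he, rfl⟩, e1⟩ := hB.two.normal_trans h1 z w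
    have hW : (e : G) * e ∈ W Q x y := mem_W.2 (c.eq_one_iff (g := e * e) |>.1 (by
      rw [map_mul, ← sq]; exact ex _ hr))
    obtain ⟨m, hm⟩ := h.odd_cen hxy (mem_W.1 hW x lx) (mem_W.1 hW y ly) (cE (mul_mem he he))
    refine ⟨e * (e * e) ^ m, ⟨mul_mem he (pow_mem (mul_mem he he) m), ?_⟩, ?_⟩
    · rw [← pow_orderOf_eq_one ((e : G) * e), hm]
      simp only [← sq, ← pow_mul, ← pow_succ']
      congr 1; ring
    · rw [mul_smul, mem_W.1 (pow_mem hW m) _ hz, c.smul_iff.1 e1]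

theorem zs (h : II Q p) (hxy : x ≠ y) (c : Con (G1 Q x y) (ln Q x y) π ι) (ha : ι a = x)
    (hb : ι b = y) (hr : ¬ HasReg B Δ) : ∃ m, Zs Q x y m := by
  have := c.finite
  have := c.finite_pts
  have hB := bg h hxy c ha hb
  obtain ⟨L, hL, hZ, hs, hC, -, hc, -⟩ := hB.psl hr
  have three : ∀ i ∈ L, ∀ d e f : Δ, d ≠ e → e ≠ f → d ≠ f → i • d = d → i • e = e → i • f = f →
      i = 1 := fun i hi d e f h1 h2 h3 h4 h5 h6 =>
    congrArg Subtype.val (hZ.2.2.1 ⟨i, hi⟩ d e f h1 h2 h3 h4 h5 h6)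
  have one : ∀ {d e : Δ}, d ≠ e → 1 < Nat.card (st2 L d e) := fun hde => by
    obtain ⟨g, g1, d, e, h1, h2, h3⟩ := hZ.2.2.2.1
    rw [hZ.two.card_st2 h1 hde]
    exact (one_lt_card_iff_ne_bot _).2 fun e' => g1 (mem_bot.1 (e'.le ⟨h2, h3⟩))
  have hN : ((E Q x y).subgroupOf (G1 Q x y)).Normal :=
    normal_subgroupOf_of_le_normalizer ((G1_le h.toGE hxy).trans (norm_E h.fam))
  have hE := hN.map π c.surj
  have EL : ∀ e (he : e ∈ E Q x y), π ⟨e, mem_sup_left he⟩ ∈ L := fun e he => by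
    induction he using closure_induction with
    | one => exact (map_one π).symm ▸ one_mem L
    | mul _ _ h1 h2 i1 i2 => exact (map_mul π ⟨_, _⟩ ⟨_, _⟩).symm ▸ mul_mem i1 i2
    | inv _ h1 i1 => exact (map_inv π ⟨_, _⟩).symm ▸ inv_mem i1
    | mem τ hτ =>
      obtain ⟨z, hz, hτ⟩ := hτ
      obtain ⟨z, rfl⟩ := c.exists_eq hz
      obtain ⟨d, hd⟩ : ∃ d, z ≠ d := (em (z = a)).elim (fun e => ⟨b, e ▸ hB.ne⟩) fun e => ⟨a, e⟩
      obtain ⟨⟨i, hi⟩, ⟨i1, i2⟩, i3⟩ := (bot_or_exists_ne_one _).resolve_left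
        ((one_lt_card_iff_ne_bot _).1 (one hd))
      obtain ⟨g, rfl⟩ := c.surj i
      have gz : (g : G) • ι z = ι z := c.smul_iff.1 i1
      have gd : (g : G) • ι d = ι d := c.smul_iff.1 i2
      let f : T Q (ι z) → T Q (ι z) := fun s => ⟨s * g * (s : G)⁻¹ * (g : G)⁻¹, by
        simpa [mul_assoc] using mul_mem s.2 ((fam_T h.fam).conj' gz (inv_mem s.2))⟩
      have hf : Function.Injective f := fun s r e => by
        have e1 : Commute ((r : G)⁻¹ * s) g := by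
          have : (s : G) * g * (s : G)⁻¹ = r * g * (r : G)⁻¹ :=
            mul_right_cancel (congrArg Subtype.val e)
          calc _ = (r : G)⁻¹ * (s * g * (s : G)⁻¹) * s := by group
            _ = _ := by rw [this]; group
        have hσ := mul_mem (inv_mem r.2) s.2
        refine Subtype.ext (inv_mul_eq_one.1 ?_).symm
        generalize (r : G)⁻¹ * s = σ at e1 hσ
        obtain ⟨k, hk⟩ := c.exists_eq (St.smul_mem (h.T_le_M' hxy hz hσ) (c.mem d))
        refine h.srT _ σ hσ (ι d) (fun e' => hd (c.inj e').symm) (hk ▸ congrArg ι ?_)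
        by_contra kd
        refine i3 (Subtype.ext (three _ hi z d k hd (Ne.symm kd) (fun e' => hd (c.inj ?_)) i1 i2
          (c.smul_iff.2 (hk ▸ smul_fix_of_commute e1 gd))))
        exact MulAction.injective σ ((h.fam.le _ σ hσ.1).trans (e' ▸ hk))
      obtain ⟨s, hs⟩ := Finite.surjective_of_injective hf ⟨τ, hτ⟩
      have e1 : (⟨τ, mem_sup_left (T_le_E hz hτ)⟩ : G1 Q x y) =
          ⟨s, mem_sup_left (T_le_E hz s.2)⟩ * g * (⟨s, mem_sup_left (T_le_E hz s.2)⟩)⁻¹ * g⁻¹ :=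
        Subtype.ext (congrArg Subtype.val hs).symm
      rw [e1, map_mul, map_mul, map_mul, map_inv, map_inv]
      exact mul_mem (hL.conj_mem _ hi _) (inv_mem hi)
  have LE : L ≤ ((E Q x y).subgroupOf (G1 Q x y)).map π := by
    refine subgroupOf_eq_top.1 ((hE.subgroupOf L).eq_bot_or_eq_top.resolve_left fun e => ?_)
    obtain ⟨τ, hτ, -, τ1⟩ := h.exists_T x
    have hτ' := T_le_E (h.fam.left_mem_ln x y) hτ
    have e1 : (⟨_, EL τ hτ'⟩ : L) ∈ (⊥ : Subgroup L) := e.le (mem_map_of_mem π hτ')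
    exact τ1 (h.srT x τ hτ y hxy.symm
      (c.eq_one_iff.1 (congrArg Subtype.val (mem_bot.1 e1)) y (right_mem_ln x y)))
  refine ⟨_, hxy, one hB.ne, c.card_pts ▸ hc, fun e he ex ey d hd dx dy ed => ?_,
    fun d hd dx dy => ?_⟩
  · obtain ⟨d, rfl⟩ := c.exists_eq hd
    exact mem_W.2 (c.eq_one_iff.1 (three _ (EL e he) a b d hB.ne (fun e' => dy (e' ▸ hb))
      (fun e' => dx (e' ▸ ha)) (c.smul_iff.2 (ha ▸ ex)) (c.smul_iff.2 (hb ▸ ey)) (c.smul_iff.2 ed)))
  · obtain ⟨d, rfl⟩ := c.exists_eq hd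
    have hi : Function.Injective fun i : st2 L a b => ι (i.1.1 • d) := fun i j e => by
      have e' : i.1.1 • d = j.1.1 • d := c.inj e
      have hm := mul_mem (inv_mem j.2) i.2
      exact Subtype.ext (inv_mul_eq_one.1 (hZ.2.2.1 _ a b d hB.ne (fun e' => dy (e' ▸ hb))
        (fun e' => dx (e' ▸ ha)) hm.1 hm.2 (by
          change (j.1.1⁻¹ * i.1.1) • d = d
          rw [mul_smul, e', inv_smul_smul]))).symm
    rw [← Nat.card_range_of_injective hi, Nat.card_coe_set_eq]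
    congr 1
    ext k
    refine ⟨?_, ?_⟩
    · rintro ⟨e, he, ex, ey, rfl⟩
      exact ⟨⟨⟨_, EL e he⟩, c.smul_iff.2 (ha ▸ ex), c.smul_iff.2 (hb ▸ ey)⟩, c.smul _ d⟩
    · rintro ⟨⟨⟨i, hi⟩, i1, i2⟩, rfl⟩
      obtain ⟨e, he, rfl⟩ := LE hi
      exact ⟨e, he, ha ▸ c.smul_iff.1 i1, hb ▸ c.smul_iff.1 i2, (c.smul e d).symm⟩

end TwoAux

open TwoAux in
theorem II.dich (h : II Q p) (hxy : x ≠ y) : (∃ V, Aff Q x y V) ∨ ∃ m, Zs Q x y m := by
  obtain ⟨B, Δ, _, _, π, ι, c⟩ := exists_con (G1 Q x y) (ln Q x y) (t2 h.toGE hxy).inv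
  obtain ⟨a, ha⟩ := c.exists_eq (h.fam.left_mem_ln x y)
  obtain ⟨b, hb⟩ := c.exists_eq (right_mem_ln x y)
  exact (em (HasReg B Δ)).imp (aff h hxy c ha hb) (zs h hxy c ha hb)

end Cfsg.Agent.KS
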