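import Mathlib
import Cfsg.Agent.KS.Two
import Cfsg.Agent.KS.One

/-! The lines are not affine: otherwise the translations of all the lines form a regular normal subgroup. -/

set_option autoImplicit false
set_option linter.unusedSectionVars false

namespace Cfsg.Agent.KS

open Subgroup MulAction Cfsg.Agent.TT Cfsg.Agent.OT Cfsg.Agent.Perm.TT Cfsg.Agent.Perm.TwoCount
open scoped commutatorElement

universe u v

variable {G : Type u} {X : Type v} [Group G] [Finite G] [MulAction G X] [Finite X]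
  {Q : X → Subgroup G} {p : ℕ} {x y z w : X} {V : Subgroup G}

theorem Aff.inv (hV : Aff Q x y V) {n : G} (hn : n ∈ V) : n⁻¹ = n := inv_eq_of_mul_eq_one_right (hV.sq n hn)

theorem Aff.comm (hV : Aff Q x y V) {n m : G} (hn : n ∈ V) (hm : m ∈ V) : n * m = m * n := by
  rw [← hV.inv (mul_mem hn hm), mul_inv_rev, hV.inv hn, hV.inv hm]

theorem conj_two_eq {a b : G} (ha : a * a = 1) (hb : b * b = 1) (ho : Odd (orderOf (a * b))) :
    ∃ k : ℕ, (a * b) ^ k * b * ((a * b) ^ k)⁻¹ = a := by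
  obtain ⟨k, hk⟩ := ho
  have h1 : b * (a * b)⁻¹ * b⁻¹ = a * b := by
    rw [mul_inv_rev, inv_eq_of_mul_eq_one_right ha, mul_inv_cancel_left, inv_eq_of_mul_eq_one_right hb]
  have h2 : b * ((a * b) ^ (k + 1))⁻¹ * b⁻¹ = (a * b) ^ (k + 1) := by rw [← inv_pow, ← conj_pow, h1]
  refine ⟨k + 1, ?_⟩
  calc _ = (a * b) ^ (k + 1) * (b * ((a * b) ^ (k + 1))⁻¹ * b⁻¹) * b := by group
    _ = (a * b) ^ orderOf (a * b) * (a * b) * b := by rw [h2, hk, ← pow_add, ← pow_succ]; congr 2; ring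
    _ = a := by rw [pow_orderOf_eq_one, one_mul, mul_assoc, hb, mul_one]

namespace II

variable (h : II Q p)
include h

theorem aff_fpf (hV : Aff Q x y V) {n : G} (hn : n ∈ V) {c : X} (e : n • c = c) : n = 1 :=
  by_contra fun h1 => h.fpf hV.ne (hV.sq n hn) h1 (fun _ hd => h.commEW hV.ne (hV.le hn) (Kp_le_W hd)) c e

theorem aff_eq (hV : Aff Q x y V) {n m : G} (hn : n ∈ V) (hm : m ∈ V) {c : X} (e : n • c = m • c) : n = m :=
  (inv_mul_eq_one.1 (h.aff_fpf hV (mul_mem (inv_mem hm) hn) (c := c) (by rw [mul_smul, e, inv_smul_smul]))).symm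

theorem aff_all (hV : Aff Q x y V) (hzw : z ≠ w) : ∃ V', Aff Q z w V' := by
  obtain ⟨g, rfl, rfl⟩ := h.two.two hV.ne hzw
  exact ⟨_, hV.conj h.fam g⟩

theorem cop {t : G} (ht : t * t = 1) (x : X) : (orderOf t).Coprime p :=
  Nat.Coprime.coprime_dvd_left (orderOf_dvd_of_pow_eq_one (by rwa [pow_two]))
    ((Nat.coprime_primes Nat.prime_two h.prime).2 (h.p_ne_two x).symm)

/-- An involution without fixed points on the line acts there as a translation. -/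
theorem tr_mem (hV : Aff Q x y V) {n ν : G} (hM : n ∈ M Q x y) (h2 : n * n = 1)
    (hf : ∀ c ∈ ln Q x y, n • c ≠ c) (hx : n • x = y) (hν : ν ∈ V) (hx' : ν • x = y) :
    n * ν ∈ W Q x y ∧ n * ν * (n * ν) = 1 := by
  have hxy := hV.ne
  have lx := h.fam.left_mem_ln x y
  have ly := right_mem_ln (N := Q) x y
  have hy : n • y = x := by rw [← hx, ← mul_smul, h2, one_smul]
  have hy' : ν • y = x := by rw [← hx', ← mul_smul, hV.sq ν hν, one_smul]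
  have ni := inv_eq_of_mul_eq_one_right h2
  have h3 : n * ν * n⁻¹ = ν := h.aff_eq hV (hV.norm n hM ν hν) hν (c := x)
    (by rw [ni, mul_smul, mul_smul, hx, hy', hx, hx'])
  have g2 : n * ν * (n * ν) = 1 := by
    rw [ni] at h3
    rw [← mul_assoc, h3, hV.sq ν hν]
  have gx : (n * ν) • x = x := by rw [mul_smul, hx', hy]
  have gy : (n * ν) • y = y := by rw [mul_smul, hy', hx]
  have gM := mem_M_of_fix h.fam gx gy
  have gν : Commute ν (n * ν) := (Commute.symm (mul_inv_eq_iff_eq_mul.1 h3)).mul_right (Commute.refl ν)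
  have gn : n = n * ν * ν := by rw [mul_assoc, hV.sq ν hν, mul_one]
  generalize n * ν = g at g2 gx gy gM gν gn
  refine ⟨mem_W.2 fun c hc => by_contra fun h4 => ?_, g2⟩
  have gi := inv_eq_of_mul_eq_one_right g2
  obtain ⟨s, hs, sM, rfl⟩ := h.trM hxy lx ly hc hxy.symm fun e => h4 (e ▸ gx)
  have s1 : s⁻¹ * (g * s * g⁻¹) ∈ Q x := mul_mem (inv_mem hs) (h.fam.conj' gx hs)
  have s2 : s⁻¹ * (g * s * g⁻¹) ∈ M Q x y := mul_mem (inv_mem sM) (mul_mem (mul_mem gM sM) (inv_mem gM))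
  have s3 : (s⁻¹ * (g * s * g⁻¹)) • y ≠ y := by
    rw [gi, mul_smul, mul_smul, mul_smul, gy, Ne, inv_smul_eq_iff]
    exact h4
  have s4 : g * (s⁻¹ * (g * s * g⁻¹))⁻¹ = s⁻¹ * (g * s * g⁻¹) * g := by
    calc _ = g * g * (s⁻¹ * g⁻¹ * s) := by group
      _ = _ := by rw [g2, gi, mul_assoc _ _ g, mul_assoc _ g g, g2]; group
  generalize s⁻¹ * (g * s * g⁻¹) = σ at s1 s2 s3 s4
  have h5 : ∀ m ∈ V, Commute m g → Commute m (σ⁻¹ * g * σ) → m = 1 := fun m hm c1 c2 => by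
    have c3 := c1.mul_right c2
    rw [← mul_assoc, ← mul_assoc, s4, mul_assoc σ, g2, mul_one] at c3
    have c4 : (σ * σ) • m • x = m • x := smul_fix_of_commute c3 (h.fam.le x _ (mul_mem s1 s1))
    refine h.aff_fpf hV hm (c := x) (by_contra fun e => s3 ?_)
    have c5 := h.mem_Kp_of_fix hxy lx (St.smul_mem (h.E_le_M hxy (hV.le hm)) lx) (Ne.symm e) (mul_mem s1 s1) c4
    obtain ⟨k, hk⟩ := h.odd_orderOf s1
    have c6 := pow_mem c5 (k + 1)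
    rw [← pow_two, ← pow_mul, show 2 * (k + 1) = orderOf σ + 1 by omega, pow_succ, pow_orderOf_eq_one, one_mul] at c6
    exact c6.2
  have h6 : Set.InjOn (fun m => m * (g * m * g⁻¹)) (V ⊓ centralizer {σ⁻¹ * g * σ} : Subgroup G) := fun m hm m' hm' e => by
    have m1 : m'⁻¹ * m ∈ V ⊓ centralizer {σ⁻¹ * g * σ} := mul_mem (inv_mem hm') hm
    refine (inv_mul_eq_one.1 (h5 _ m1.1 ?_ (mem_centralizer_singleton_iff.1 m1.2))).symm
    have e1 : m * (g * m * g⁻¹) = m' * (g * m' * g⁻¹) := e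
    have e2 : g * (m'⁻¹ * m) * g⁻¹ = (m'⁻¹ * m)⁻¹ := by
      calc _ = (g * m' * g⁻¹)⁻¹ * m⁻¹ * (m * (g * m * g⁻¹)) := by group
        _ = (g * m' * g⁻¹)⁻¹ * ((m'⁻¹ * m)⁻¹ * (g * m' * g⁻¹)) := by rw [e1]; group
        _ = _ := by rw [hV.comm (inv_mem m1.1) (hV.norm g gM _ hm'.1), inv_mul_cancel_left]
    rw [hV.inv m1.1] at e2
    exact (mul_inv_eq_iff_eq_mul.1 e2).symm
  have h7 : (fun m => m * (g * m * g⁻¹)) '' (V ⊓ centralizer {σ⁻¹ * g * σ} : Subgroup G) =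
      (V ⊓ centralizer {g} : Subgroup G) := by
    refine Set.eq_of_subset_of_ncard_le ?_ ?_
    · rintro _ ⟨m, hm, rfl⟩
      have m1 := hV.norm g gM m hm.1
      refine ⟨mul_mem hm.1 m1, mem_centralizer_singleton_iff.2 ?_⟩
      calc m * (g * m * g⁻¹) * g = g * g * m * g * m := by rw [g2]; group
        _ = g * (g * m * g⁻¹ * m) := by rw [gi]; group
        _ = _ := by rw [hV.comm m1 hm.1]
    · rw [h6.ncard_image]
      refine card_le_of_conj σ⁻¹ fun a ha => ⟨hV.norm _ (inv_mem s2) a ha.1, mem_centralizer_singleton_iff.2 ?_⟩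
      calc _ = σ⁻¹ * (a * g) * σ := by group
        _ = _ := by rw [mem_centralizer_singleton_iff.1 ha.2]; group
  obtain ⟨m, hm, e⟩ := h7.ge (show ν ∈ V ⊓ centralizer {g} from ⟨hν, mem_centralizer_singleton_iff.2 gν⟩)
  refine hf (m • x) (St.smul_mem (h.E_le_M hxy (hV.le hm.1)) lx) ?_
  have e1 : ν = g * m * g⁻¹ * m := by rw [← e, hV.comm (hV.norm g gM m hm.1) hm.1]
  rw [gn, e1, ← mul_smul, mul_assoc, mul_assoc _ m m, hV.sq m hm.1, mul_one, ← mul_assoc, ← mul_assoc, g2, one_mul,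
    gi, mul_smul, gx]

theorem pw_step (hxy : x ≠ y) {t : G} (ht : t * t = 1) (hW : t ∈ W Q x y) (hxz : x ≠ z) (e : t • z = z) :
    t ∈ W Q x z := by
  obtain ⟨u, hu, hc, rfl⟩ := h.fix_tr (h.cop ht x) (mem_W.1 hW _ (h.fam.left_mem_ln x y)) hxy.symm hxz.symm
    (mem_W.1 hW _ (right_mem_ln x y)) e
  have h1 := conj_mem_W h.fam u hW
  rwa [hc.eq, mul_inv_cancel_right, h.fam.le x u hu] at h1

theorem W_symm (hxy : x ≠ y) : W Q y x = W Q x y := by rw [W, h.ln_symm hxy]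

/-- An involution fixing a line pointwise has no fixed point on a line it stabilizes and moves. -/
theorem pw (hxy : x ≠ y) {t : G} (ht : t * t = 1) (hW : t ∈ W Q x y) (hz : t • z ≠ z) {c : X}
    (hc : c ∈ ln Q z (t • z)) : t • c ≠ c := fun e => by
  obtain ⟨c', c1, c2, c3⟩ := h.second hz.symm ht (h.mem_M_swap ht hz) hc e
  have h1 : t ∈ W Q c c' := by
    by_cases e1 : x = c
    · exact e1 ▸ h.pw_step hxy ht hW (e1 ▸ c2.symm) c3
    · exact h.pw_step (Ne.symm e1) ht (h.W_symm e1 ▸ h.pw_step hxy ht hW e1 e) c2.symm c3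
  exact hz (mem_W.1 h1 z (h.ln_eq hz.symm hc c1 c2.symm ▸ h.fam.left_mem_ln _ _))

/-- An involution fixing the line pointwise inverts `Kp Q x y`. -/
theorem inverts (hxy : x ≠ y) {t : G} (ht : t * t = 1) (h1 : t ≠ 1) (hW : t ∈ W Q x y) {d : G}
    (hd : d ∈ Kp Q x y) : t * d * t⁻¹ = d⁻¹ := by
  have lx := h.fam.left_mem_ln x y
  have tx := mem_W.1 hW _ lx
  have ty := mem_W.1 hW _ (right_mem_ln x y)
  have ti := inv_eq_of_mul_eq_one_right ht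
  have tt : ∀ a : G, t * (t * a * t⁻¹) * t⁻¹ = a := fun a => by
    rw [ti, ← mul_assoc, ← mul_assoc, ht, one_mul, mul_assoc, ht, mul_one]
  have key : ∀ d ∈ Kp Q x y, Commute d t → d = 1 := fun d hd hc => h.cY hxy hd fun u hu => by
    have u1 := h.conj_Y tx hu
    have b1 : (t * u * t⁻¹)⁻¹ * u ∈ Y Q x := mul_mem (inv_mem u1) hu
    have b2 := h.comm_mem hd.1 b1
    have b3 : ⁅d, (t * u * t⁻¹)⁻¹ * u⁆ = 1 := h.eq_one_of_sq b2.1 (by
      rw [mul_eq_one_iff_eq_inv, ← h.comm_inv_right hxy hd b1]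
      conv_lhs => rw [← mul_inv_cancel_right ⁅d, _⁆ t, (h.commTW hxy lx b2 hW).eq, conjugate_commutatorElement,
        ← hc.eq, mul_inv_cancel_right]
      congr 1
      conv_rhs => rw [mul_inv_rev, inv_inv, ← tt u⁻¹]
      group)
    obtain ⟨a1, a2⟩ := h.stab_line hxy ht tx ty hu
    obtain ⟨c, c1, c2, c3⟩ := h.second a1 ht a2 (h.fam.left_mem_ln _ _) tx
    have a3 := h.mem_Kp_of_fix a1 (h.fam.left_mem_ln _ _) c1 c2.symm hd.1
      (h.fix_fix hxy (h.cop ht x) h1 tx ty hd hc c3)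
    have a4 := commutatorElement_eq_one_iff_commute.2 (h.commute_of_fix hxy hd (mul_mem hu u1) a3.2)
    have a5 := h.comm_mul_right hxy hd (mul_mem hu u1) b1
    rw [a4, b3, mul_one, mul_assoc, mul_inv_cancel_left, h.comm_mul_right hxy hd hu hu] at a5
    exact commutatorElement_eq_one_iff_commute.1 (h.eq_one_of_sq (h.comm_mem hd.1 hu).1 a5)
  have d1 := h.conj_Kp_of_M hxy (W_le_M hW) hd
  refine eq_inv_of_mul_eq_one_right (key _ (mul_mem hd d1) (Commute.symm (mul_inv_eq_iff_eq_mul.1 ?_)))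
  rw [← conj_mul, tt, (h.Kp_comm hxy hd d1).eq]

/-- A translation mapping `x` to `y` is the translation of the line through `x` and `y`. -/
theorem un {V' : Subgroup G} (hV' : Aff Q z w V') {n : G} (hn : n ∈ V') (hV : Aff Q x y V) {ν : G} (hν : ν ∈ V)
    (hx : n • x = y) (hx' : ν • x = y) : n = ν := by
  have hxy := hV.ne
  have n1 : n ≠ 1 := fun e => hxy (by rw [← hx, e, one_smul])
  have ν1 : ν ≠ 1 := fun e => hxy (by rw [← hx', e, one_smul])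
  have n2 := hV'.sq n hn
  have ν2 := hV.sq ν hν
  obtain ⟨h1, h2⟩ := h.tr_mem hV (hx ▸ h.mem_M_swap n2 (hx.symm ▸ hxy.symm)) n2
    (fun c _ e => n1 (h.aff_fpf hV' hn e)) hx hν hx'
  by_contra h3
  have h4 : n * ν ≠ 1 := fun e => h3 ((eq_inv_of_mul_eq_one_left e).trans (hV.inv hν))
  have h5 : n = n * ν * ν := by rw [mul_assoc, ν2, mul_one]
  generalize n * ν = t at h1 h2 h4 h5
  obtain ⟨a, ha⟩ : ∃ a : X, t • a ≠ a := by
    by_contra h6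
    push Not at h6
    exact h4 (h.two.faith t h6)
  obtain ⟨g, g1, g2⟩ := h.two.two ha.symm hxy
  have t2 : g * t * g⁻¹ * (g * t * g⁻¹) = 1 := by rw [conj_mul, h2, mul_one, mul_inv_cancel]
  have t3 : (g * t * g⁻¹) • x = y := by rw [← g1, mul_smul, inv_smul_smul, mul_smul, g2]
  have t4 : (g * t * g⁻¹) • g • x = g • x := conj_smul_iff.2 (mem_W.1 h1 _ (h.fam.left_mem_ln x y))
  obtain ⟨h6, h7⟩ := h.tr_mem hV (t3 ▸ h.mem_M_swap t2 (t3.symm ▸ hxy.symm)) t2 (fun c hc e =>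
    h.pw hxy h2 h1 ha ((h.fam.smul_mem_ln_iff (g := g)).1 (by rwa [smul_inv_smul, g1, g2])) (conj_smul_iff'.1 e))
    t3 hν hx'
  generalize g * t * g⁻¹ = t' at t2 t3 t4 h6 h7
  have h8 : t' * ν ≠ 1 := fun e => ν1 (h.aff_fpf hV hν (c := g • x)
    (by rwa [(eq_inv_of_mul_eq_one_left e).trans (hV.inv hν)] at t4))
  have h9 : t * (t' * ν) ∈ W Q x y := mul_mem h1 h6
  obtain ⟨k, hk⟩ := conj_two_eq h2 h7 (h.odd_cen hxy (mem_W.1 h9 _ (h.fam.left_mem_ln x y))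
    (mem_W.1 h9 _ (right_mem_ln x y)) fun d hd => mul_inv_eq_iff_eq_mul.1 (by
      calc t * (t' * ν) * d * (t * (t' * ν))⁻¹ = t * (t' * ν * d * (t' * ν)⁻¹) * t⁻¹ := by group
        _ = d := by rw [h.inverts hxy h7 h8 h6 hd, h.inverts hxy h2 h4 h1 (inv_mem hd), inv_inv]))
  have j1 := (h.commEW hxy (hV.le hν) (pow_mem h9 k)).eq
  generalize (t * (t' * ν)) ^ k = j at hk j1
  refine n1 (h.aff_fpf hV' hn (c := j • g • x) ?_)
  have e : n = j * t' * j⁻¹ := by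
    calc n = j * t' * (ν * j⁻¹ * ν * j) * j⁻¹ := by rw [h5, ← hk]; group
      _ = _ := by rw [mul_assoc _ ν j, j1, mul_assoc ν, inv_mul_cancel_left, ν2, mul_one]
  rw [e]
  exact conj_smul_iff.2 t4

theorem onto (hV : Aff Q x y V) {ζ : G} (hζ : ζ ∈ T Q x) (h1 : ζ ≠ 1) {m : G} (hm : m ∈ V) :
    ∃ ν ∈ V, ζ⁻¹ * ν * ζ * ν = m := by
  have n1 : ∀ ν ∈ V, ζ⁻¹ * ν * ζ ∈ V := fun ν hν => by simpa using hV.norm _ (inv_mem (T_le_M hζ)) ν hν
  refine ((V : Set G).toFinite.injOn_iff_bijOn_of_mapsTo (f := fun ν => ζ⁻¹ * ν * ζ * ν)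
    fun ν hν => mul_mem (n1 ν hν) hν).1 (fun a ha b hb e => ?_) |>.surjOn hm
  have e1 : ζ⁻¹ * a * ζ * a = ζ⁻¹ * b * ζ * b := e
  have e2 : Commute (b * a⁻¹) ζ := by
    rw [hV.comm hb (inv_mem ha), hV.inv ha]
    calc a * b * ζ = a * ζ * (ζ⁻¹ * b * ζ * b) * b⁻¹ := by group
      _ = a * a * ζ * (a * b⁻¹) := by rw [← e1]; group
      _ = _ := by rw [hV.sq a ha, hV.inv hb, one_mul]
  refine (mul_inv_eq_one.1 (h.aff_fpf hV (mul_mem hb (inv_mem ha)) (c := x) (by_contra fun e3 => h1 ?_))).symm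
  exact h.srT x ζ hζ _ e3 (smul_fix_of_commute e2 (h.fam.le x ζ hζ.1))

theorem un' (hV : Aff Q x y V) {a b c d : X} {V₁ V₂ : Subgroup G} (h1 : Aff Q a b V₁) (h2 : Aff Q c d V₂) {n m : G}
    (hn : n ∈ V₁) (hm : m ∈ V₂) (e : n • z = m • z) : n = m := by
  by_cases e1 : z = n • z
  · rw [h.aff_fpf h1 hn e1.symm, h.aff_fpf h2 hm (e ▸ e1.symm)]
  obtain ⟨U, hU⟩ := h.aff_all hV e1
  obtain ⟨ν, hν, e2⟩ := hU.tr _ (h.fam.left_mem_ln _ _) _ (right_mem_ln _ _)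
  rw [h.un h1 hn hU hν rfl e2, h.un h2 hm hU hν e.symm e2]

theorem mul_aff (hV : Aff Q x y V) {a b c d : X} {V₁ V₂ : Subgroup G} (h1 : Aff Q a b V₁) (h2 : Aff Q c d V₂)
    {n m : G} (hn : n ∈ V₁) (hm : m ∈ V₂) : ∃ a b U, Aff Q a b U ∧ n * m ∈ U := by
  by_cases e0 : n = m
  · exact ⟨a, b, V₁, h1, e0 ▸ mul_mem hn hn⟩
  obtain ⟨ζ, hζ, -, ζ1⟩ := h.exists_T x
  have key : ∀ {a b : X} {V₁ : Subgroup G}, Aff Q a b V₁ → ∀ n ∈ V₁,
      ∃ c d U, Aff Q c d U ∧ ∃ ν ∈ U, ζ⁻¹ * ν * ζ * ν = n := fun h1 n hn => by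
    by_cases e1 : x = n • x
    · exact ⟨x, y, V, hV, 1, one_mem _, by rw [h.aff_fpf h1 hn e1.symm]; group⟩
    obtain ⟨U, hU⟩ := h.aff_all hV e1
    obtain ⟨ν, hν, e2⟩ := hU.tr _ (h.fam.left_mem_ln _ _) _ (right_mem_ln _ _)
    exact ⟨_, _, U, hU, h.onto hU hζ ζ1 (h.un h1 hn hU hν rfl e2 ▸ hν)⟩
  obtain ⟨_, _, U₁, u1, ν, hν, e1⟩ := key h1 n hn
  obtain ⟨_, _, U₂, u2, ν', hν', e2⟩ := key h2 m hm
  have h3 : ν • x ≠ ν' • x := fun e => e0 (by rw [← e1, ← e2, h.un' hV u1 u2 hν hν' e])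
  obtain ⟨U, hU⟩ := h.aff_all hV h3
  obtain ⟨μ, hμ, e3⟩ := hU.tr _ (h.fam.left_mem_ln _ _) _ (right_mem_ln _ _)
  have t1 : ν * ζ * ν⁻¹ ∈ T Q (ν • x) := (fam_T h.fam).conj ν x ζ hζ
  have t2 : μ⁻¹ * (ν' * ζ * ν'⁻¹) * μ ∈ T Q (ν • x) :=
    (fam_T h.fam).conj_inv e3 ((fam_T h.fam).conj ν' x ζ hζ)
  have e4 : n * m = (ν * ζ * ν⁻¹)⁻¹ * (μ * (μ⁻¹ * (ν' * ζ * ν'⁻¹) * μ) * μ⁻¹) := by
    rw [← h1.inv hn, ← e1, ← e2]
    conv_lhs => rw [mul_inv_rev, mul_inv_rev, mul_inv_rev, u1.inv hν]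
    conv_rhs => rw [mul_inv_rev, mul_inv_rev, inv_inv, u1.inv hν, u2.inv hν']
    group
  generalize ν * ζ * ν⁻¹ = τ₁ at t1 e4
  generalize μ⁻¹ * (ν' * ζ * ν'⁻¹) * μ = τ₂ at t2 e4
  have m1 : τ₂⁻¹ * μ * τ₂⁻¹⁻¹ * μ⁻¹ ∈ U := mul_mem (hU.norm _ (inv_mem (T_le_M t2)) μ hμ) (inv_mem hμ)
  have e5 : n * m = τ₁⁻¹ * τ₂ * (τ₂⁻¹ * μ * τ₂⁻¹⁻¹ * μ⁻¹) := by rw [e4]; group
  by_cases h4 : τ₁⁻¹ * τ₂ = 1
  · exact ⟨_, _, U, hU, by rwa [e5, h4, one_mul]⟩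
  have t3 := mul_mem (inv_mem t1) t2
  obtain ⟨l, hl, e6⟩ := h.onto hU t3 h4 m1
  rw [← e6, mul_assoc _ _ l, mul_assoc _ l, mul_inv_cancel_left, ← mul_assoc] at e5
  refine absurd (h.un' hV h1 h2 hn hm (z := l • ν • x) ?_) e0
  rw [← h1.inv hn, inv_smul_eq_iff, ← mul_smul n m, e5, mul_smul, mul_smul, ← mul_smul l l, hU.sq l hl, one_smul,
    h.fam.le _ _ t3.1]

end II

theorem II.not_aff (h : II Q p) {V : Subgroup G} (hV : Aff Q x y V) : False := by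
  let R : Subgroup G :=
    { carrier := {n | ∃ a b U, Aff Q a b U ∧ n ∈ U}
      one_mem' := ⟨x, y, V, hV, one_mem _⟩
      mul_mem' := fun ⟨_, _, _, h1, hn⟩ ⟨_, _, _, h2, hm⟩ => h.mul_aff hV h1 h2 hn hm
      inv_mem' := fun ⟨a, b, U, h1, hn⟩ => ⟨a, b, U, h1, inv_mem hn⟩ }
  refine h.nreg ⟨R, ⟨fun n ⟨a, b, U, h1, hn⟩ g => ⟨_, _, _, h1.conj h.fam g, n, hn, rfl⟩⟩, fun a b => ?_,
    fun a r ⟨_, _, _, h1, hn⟩ e => h.aff_fpf h1 hn e⟩
  by_cases e : a = b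
  · exact ⟨1, one_mem _, by rw [e, one_smul]⟩
  obtain ⟨U, hU⟩ := h.aff_all hV e
  obtain ⟨ν, hν, e2⟩ := hU.tr _ (h.fam.left_mem_ln _ _) _ (right_mem_ln _ _)
  exact ⟨ν, ⟨a, b, U, hU, hν⟩, e2⟩

end Cfsg.Agent.KS
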