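import Mathlib
import Cfsg.Agent.KS.Two

/-!
# Kantor-Seitz: lines of Zassenhaus type, the structure of `Q x`
-/

set_option autoImplicit false
set_option linter.unusedSectionVars false

namespace Cfsg.Agent.KS

open Subgroup MulAction Cfsg.Agent.TT Cfsg.Agent.OT Cfsg.Agent.Perm.TT Cfsg.Agent.Perm.TwoCount
open Cfsg.Agent.Perm Cfsg.Agent.Loc.Mss
open scoped commutatorElement

universe u v

variable {G : Type u} {X : Type v} [Group G] [MulAction G X]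

/-- The hypotheses of the Zassenhaus case. -/
structure ZZ (Q : X → Subgroup G) (p : ℕ) (x y : X) (m : ℕ) : Prop extends II Q p, Zs Q x y m

/-- The two-point stabilizer in `E Q x y`. -/
abbrev EI (Q : X → Subgroup G) (x y : X) : Subgroup G := E Q x y ⊓ st2 G x y

namespace ZAux

theorem mem_of_sq {K : Subgroup G} {g : G} (ho : Odd (orderOf g)) (h : g * g ∈ K) : g ∈ K := by
  obtain ⟨k, hk⟩ := ho
  have : g = (g * g) ^ (k + 1) := by
    rw [← sq, ← pow_mul, show 2 * (k + 1) = orderOf g + 1 by omega, pow_succ, pow_orderOf_eq_one,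
      one_mul]
  rw [this]; exact pow_mem h _

theorem commute_of_sq {g a : G} (ho : Odd (orderOf g)) (h : Commute (g * g) a) : Commute g a :=
  mem_centralizer_singleton_iff.1 (mem_of_sq ho (mem_centralizer_singleton_iff.2 h))

theorem exists_ppart [Finite G] {p : ℕ} (hp : p.Prime) (g : G) :
    ∃ a, (orderOf (g ^ p ^ a)).Coprime p := by
  obtain ⟨a, n, hn, e⟩ := Nat.exists_eq_pow_mul_and_not_dvd (orderOf_pos g).ne' p hp.ne_one
  refine ⟨a, Nat.Coprime.coprime_dvd_left (orderOf_dvd_of_pow_eq_one (n := n) ?_)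
    ((Nat.Prime.coprime_iff_not_dvd hp).2 hn).symm⟩
  rw [← pow_mul, ← e, pow_orderOf_eq_one]

theorem odd_card [Finite G] {K : Subgroup G} (h : ∀ g ∈ K, Odd (orderOf g)) :
    Odd (Nat.card K) := by
  rw [← Nat.not_even_iff_odd, even_iff_two_dvd]
  intro h2
  have : Fact (Nat.Prime 2) := ⟨Nat.prime_two⟩
  obtain ⟨g, hg⟩ := exists_prime_orderOf_dvd_card' 2 h2
  have := h g g.2
  rw [Subgroup.orderOf_coe, hg] at this
  exact absurd this (by decide)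

/-- An element of odd order inverted modulo `N` by an element of odd order lies in `N`. -/
theorem mem_of_inv_mod {A N : Subgroup G} (hN : ∀ g ∈ A, ∀ n ∈ N, g * n * g⁻¹ ∈ N) {c g : G}
    (hc : c ∈ A) (hg : g ∈ A) (oc : Odd (orderOf c)) (og : Odd (orderOf g))
    (e : c * g * c⁻¹ * g ∈ N) : g ∈ N := by
  let C : Subgroup G :=
    { carrier := {c | c ∈ A ∧ c * g * c⁻¹ * g⁻¹ ∈ N}
      one_mem' := ⟨one_mem _, by simp⟩
      mul_mem' := fun {a b} ha hb => ⟨mul_mem ha.1 hb.1, by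
        convert mul_mem (hN a ha.1 _ hb.2) ha.2 using 1; group⟩
      inv_mem' := fun {a} ha => ⟨inv_mem ha.1, by
        convert hN _ (inv_mem ha.1) _ (inv_mem ha.2) using 1; group⟩ }
  have h1 : c ∈ C := mem_of_sq oc ⟨mul_mem hc hc, by
    convert mul_mem (hN c hc _ e) (hN g hg _ (inv_mem e)) using 1; group⟩
  refine mem_of_sq og ?_
  convert mul_mem (inv_mem h1.2) e using 1; group

end ZAux

open ZAux

variable [Finite G] [Finite X] {Q : X → Subgroup G} {p m : ℕ} {x y : X}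

namespace ZZ

variable (h : ZZ Q p x y m)
include h

theorem ge : GE Q p := h.toII.toGE

theorem cE {e d : G} (he : e ∈ E Q x y) (hd : d ∈ Kp Q x y) : Commute e d :=
  h.ge.commEW h.ne he (Kp_le_W hd)

theorem oddI {e : G} (he : e ∈ EI Q x y) : Odd (orderOf e) :=
  h.toII.odd_cen h.ne he.2.1 he.2.2 fun _ hd => h.cE he.1 hd

theorem HM {g : G} (hg : g ∈ st2 G x y) : g ∈ M Q x y := mem_M_of_fix h.fam hg.1 hg.2

theorem conjI {g e : G} (hg : g ∈ st2 G x y) (he : e ∈ EI Q x y) : g * e * g⁻¹ ∈ EI Q x y :=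
  mem_inf.2 ⟨conj_mem_E_of_M h.fam (h.HM hg) he.1,
    mul_mem (mul_mem hg (mem_inf.1 he).2) (inv_mem hg)⟩

theorem xm : x ∈ ln Q x y := h.fam.left_mem_ln x y

theorem orb_card {c : X} (hc : c ∈ ln Q x y \ {x, y}) : (orbit (EI Q x y) c).ncard = m := by
  rw [← h.orb c hc.1 (fun e => hc.2 (Or.inl e)) (fun e => hc.2 (Or.inr e))]
  congr 1
  ext b
  rw [Fx.mem_orbit_sub]
  exact ⟨fun ⟨e, he, e'⟩ => ⟨e, he.1, he.2.1, he.2.2, e'⟩,
    fun ⟨e, he, h1, h2, e'⟩ => ⟨e, ⟨he, h1, h2⟩, e'⟩⟩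

theorem third : ∃ c, c ∈ ln Q x y \ {x, y} := by
  obtain ⟨c, hc, h1, h2⟩ := h.ge.exists_third h.ne
  exact ⟨c, hc, by rintro (e | e) <;> contradiction⟩

theorem m_dvd : m ∣ Nat.card (EI Q x y) := by
  obtain ⟨c, hc⟩ := h.third
  rw [← h.orb_card hc, ← Nat.card_coe_set_eq]
  exact Fx.card_orbit_dvd _ _

theorem odd_m : Odd m := (odd_card fun _ he => h.oddI he).of_dvd_nat h.m_dvd

theorem card1 : (ln Q x y \ {x}).ncard = 2 * m + 1 := by
  rw [Set.ncard_sdiff_singleton_of_mem h.xm, h.card]; rfl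

theorem card2 : (ln Q x y \ {x, y}).ncard = 2 * m := by
  rw [show ln Q x y \ {x, y} = (ln Q x y \ {x}) \ {y} by ext; simp [and_assoc],
    Set.ncard_sdiff_singleton_of_mem (show y ∈ ln Q x y \ {x} from
      ⟨right_mem_ln x y, h.ne.symm⟩), h.card1]; rfl

theorem smul_mem2 {g : G} (hg : g ∈ st2 G x y) {c : X} (hc : c ∈ ln Q x y \ {x, y}) :
    g • c ∈ ln Q x y \ {x, y} :=
  ⟨St.smul_mem (h.HM hg) hc.1, by
    rintro (e | e)
    · exact hc.2 (Or.inl (MulAction.injective g (e.trans (show g • x = x from hg.1).symm)))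
    · exact hc.2 (Or.inr (MulAction.injective g (e.trans (show g • y = y from hg.2).symm)))⟩

/-- There are two orbits, of equal size. -/
theorem inv_set {S : Set X} (hS : S ⊆ ln Q x y \ {x, y})
    (hI : ∀ e ∈ EI Q x y, ∀ c ∈ S, e • c ∈ S) (hne : S.Nonempty) :
    S.ncard = m ∨ S = ln Q x y \ {x, y} := by
  obtain ⟨c, hc⟩ := hne
  rw [or_iff_not_imp_right]
  intro hn
  obtain ⟨c', hc', hn'⟩ := Set.exists_of_ssubset (hS.ssubset_of_ne hn)
  have h1 : m ≤ S.ncard := by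
    rw [← h.orb_card (hS hc)]
    refine Set.ncard_le_ncard fun b hb => ?_
    obtain ⟨e, he, rfl⟩ := Fx.mem_orbit_sub.1 hb
    exact hI e he c hc
  have h2 : m ≤ ((ln Q x y \ {x, y}) \ S).ncard := by
    rw [← h.orb_card hc']
    refine Set.ncard_le_ncard fun b hb => ?_
    obtain ⟨e, he, rfl⟩ := Fx.mem_orbit_sub.1 hb
    exact ⟨h.smul_mem2 he.2 hc', fun hb => hn' (by simpa using hI _ (inv_mem he) _ hb)⟩
  rw [Set.ncard_sdiff hS, h.card2] at h2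
  have := h.one_lt
  omega

theorem T_smul {τ : G} (hτ : τ ∈ T Q x) (h1 : τ ≠ 1) : τ • y ∈ ln Q x y \ {x, y} :=
  ⟨St.smul_mem (T_le_M hτ) (right_mem_ln x y), by
    rintro (e | e)
    · exact h.ne (MulAction.injective τ ((h.fam.le x τ hτ.1).trans e.symm))
    · exact h1 (h.srT x τ hτ y h.ne.symm e)⟩

theorem T_inj {τ σ : G} (hτ : τ ∈ T Q x) (hσ : σ ∈ T Q x) (e : τ • y = σ • y) : τ = σ := by
  rw [← inv_mul_eq_one, ← inv_eq_one, mul_inv_rev, inv_inv]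
  exact h.srT x _ (mul_mem (inv_mem hσ) hτ) y h.ne.symm (by rw [mul_smul, e, inv_smul_smul])

theorem irr {U : Subgroup G} (hU : U ≤ T Q x) (h1 : U ≠ ⊥)
    (hI : ∀ e ∈ EI Q x y, ∀ u ∈ U, e * u * e⁻¹ ∈ U) {c : X} (hc : c ∈ ln Q x y) (hx : c ≠ x) :
    ∃ u ∈ U, u • y = c := by
  by_cases hy : c = y
  · exact ⟨1, one_mem _, by rw [one_smul, hy]⟩
  have ho : Odd (orbit U y).ncard := by
    rw [← Nat.card_coe_set_eq]
    exact (h.odd x).of_dvd_nat ((Fx.card_orbit_dvd U y).trans (card_dvd_of_le (hU.trans T_le)))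
  refine (h.inv_set (S := orbit U y \ {y}) (fun b hb => ?_) (fun e he b hb => ?_) ?_).elim
    (fun e => ?_) fun e => Fx.mem_orbit_sub.1 (e.ge ⟨hc, by rintro (e | e) <;> contradiction⟩).1
  · obtain ⟨u, hu, rfl⟩ := Fx.mem_orbit_sub.1 hb.1
    exact h.T_smul (hU hu) (by rintro rfl; exact hb.2 (one_smul _ _))
  · obtain ⟨u, hu, rfl⟩ := Fx.mem_orbit_sub.1 hb.1
    have ey : e⁻¹ • y = y := (inv_mem he).2.2
    exact ⟨Fx.mem_orbit_sub.2 ⟨_, hI e he u hu, by rw [mul_smul, mul_smul, ey]⟩,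
      fun e' => hb.2 (MulAction.injective e (e'.trans (show e • y = y from he.2.2).symm))⟩
  · obtain ⟨u, hu⟩ := (Subgroup.ne_bot_iff_exists_ne_one).1 h1
    exact ⟨u.1 • y, Fx.mem_orbit_sub.2 ⟨u, u.2, rfl⟩, fun e =>
      hu (Subtype.ext (h.srT x _ (hU u.2) y h.ne.symm e))⟩
  · rw [Set.ncard_sdiff_singleton_of_mem (mem_orbit_self y)] at e
    obtain ⟨a, ha⟩ := ho
    obtain ⟨b, hb⟩ := h.odd_m
    omega

theorem irr' {U : Subgroup G} (hU : U ≤ T Q x) (h1 : U ≠ ⊥)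
    (hI : ∀ e ∈ EI Q x y, ∀ u ∈ U, e * u * e⁻¹ ∈ U) : T Q x ≤ U := fun τ hτ => by
  by_cases t1 : τ = 1
  · rw [t1]; exact one_mem _
  obtain ⟨u, hu, e⟩ := h.irr hU h1 hI (h.T_smul hτ t1).1 fun e => (h.T_smul hτ t1).2 (Or.inl e)
  exact h.T_inj (hU hu) hτ e ▸ hu

theorem conjT {g τ : G} (hg : g • x = x) (hτ : τ ∈ T Q x) : g * τ * g⁻¹ ∈ T Q x :=
  (fam_T h.fam).conj' hg hτ

theorem conjY {g u : G} (hg : g • x = x) (hu : u ∈ Y Q x) : g * u * g⁻¹ ∈ Y Q x :=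
  (fam_Y h.fam).conj' hg hu

theorem trT {c : X} (hc : c ∈ ln Q x y) (hx : c ≠ x) : ∃ τ ∈ T Q x, τ • y = c :=
  h.irr le_rfl (h.ge.T_ne_bot x) (fun _ he _ hu => h.conjT he.2.1 hu) hc hx

theorem cenT {τ : G} (hτ : τ ∈ T Q x) : (∀ u ∈ Q x, Commute τ u) ∧ τ ^ p = 1 := by
  let U : Subgroup G :=
    { carrier := {c | c ∈ Q x ∧ (∀ u ∈ Q x, Commute c u) ∧ c ^ p = 1}
      one_mem' := ⟨one_mem _, fun _ _ => Commute.one_left _, one_pow _⟩
      mul_mem' := fun {a b} ha hb => ⟨mul_mem ha.1 hb.1, fun u hu => (ha.2.1 u hu).mul_left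
        (hb.2.1 u hu), by rw [(ha.2.1 b hb.1).mul_pow, ha.2.2, hb.2.2, one_mul]⟩
      inv_mem' := fun {a} ha => ⟨inv_mem ha.1, fun u hu => (ha.2.1 u hu).inv_left, by
        rw [inv_pow, ha.2.2, inv_one]⟩ }
  obtain ⟨c, hc, oc, cc⟩ := h.cenp x
  refine (h.irr' (U := U) (fun a ha => h.ge.cen_mem_T ha.1 ha.2.1) (fun e => ?_)
    (fun e he a ha => ⟨h.fam.conj' he.2.1 ha.1, fun u hu => ?_, by
      rw [conj_pow, ha.2.2]; simp⟩) hτ).2
  · have : c ∈ U := ⟨hc, cc, oc ▸ pow_orderOf_eq_one c⟩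
    rw [e, mem_bot] at this
    rw [this, orderOf_one] at oc
    exact h.prime.ne_one oc.symm
  · simpa [mul_assoc] using (ha.2.1 _ (h.fam.conj_inv he.2.1 hu)).map (MulAut.conj e)

theorem cardT : Nat.card (T Q x) = 2 * m + 1 := by
  have t1 : T1 (T Q x) (ln Q x y \ {x}) := ⟨fun g hg c hc => ⟨St.smul_mem (T_le_M hg) hc.1,
    fun e => hc.2 (MulAction.injective g (e.trans (h.fam.le x g hg.1).symm))⟩, fun a ha b hb => by
    obtain ⟨σ, hσ, rfl⟩ := h.trT ha.1 ha.2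
    obtain ⟨τ, hτ, rfl⟩ := h.trT hb.1 hb.2
    exact ⟨τ * σ⁻¹, mul_mem hτ (inv_mem hσ), by simp [mul_smul]⟩⟩
  rw [t1.card (a := y) ⟨right_mem_ln x y, h.ne.symm⟩, h.card1,
    (eq_bot_iff.2 fun g hg => h.srT x g hg.1 y h.ne.symm hg.2 : T Q x ⊓ stabilizer G y = ⊥),
    card_bot, mul_one]

theorem pQ : IsPGroup p (Q x) := fun u => by
  obtain ⟨a, ha⟩ := exists_ppart h.prime u.1
  refine ⟨a + 1, Subtype.ext ?_⟩
  rw [pow_succ, pow_mul]
  exact (h.cenT (h.pT x _ (pow_mem u.2 _) ha)).2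

theorem cop {a : G} (ha : (orderOf a).Coprime p) : (orderOf a).Coprime (Nat.card (Q x)) := by
  have : Fact p.Prime := ⟨h.prime⟩
  obtain ⟨s, hs⟩ := IsPGroup.iff_card.1 h.pQ
  rw [hs]; exact ha.pow_right s

theorem exists_ca : ∃ a, CA Q x y a := by
  obtain ⟨l, hl, lm⟩ := Nat.exists_prime_and_dvd h.one_lt.ne'
  have : Fact l.Prime := ⟨hl⟩
  obtain ⟨g, hg⟩ := exists_prime_orderOf_dvd_card' l (lm.trans h.m_dvd)
  rw [← Subgroup.orderOf_coe] at hg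
  refine ⟨g, h.ne, fun e => ?_, h.cop ?_, g.2.2.1, g.2.2.2, fun d hd => h.cE g.2.1 hd⟩
  · rw [e, orderOf_one] at hg; exact hl.ne_one hg.symm
  · rw [hg, Nat.coprime_primes hl h.prime]
    rintro rfl
    have := h.ge.dvd_ln h.ne
    rw [h.card] at this
    exact hl.ne_one (Nat.dvd_one.1 ((Nat.dvd_add_right (lm.mul_left 2)).1 this))

theorem fixD {d : G} (hd : d ∈ Kp Q x y) (h1 : d ≠ 1) {c : X} (e : d • c = c) : c ∈ ln Q x y := by
  obtain ⟨a, ha⟩ := h.exists_ca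
  refine h.ge.ca_D0 ha hd h1 (fun q hq hM => ?_) e
  obtain ⟨τ, hτ, e⟩ := h.trT (St.smul_mem hM (right_mem_ln x y))
    fun e => h.ne (MulAction.injective q ((h.fam.le x q hq).trans e.symm))
  have hd' : τ⁻¹ * q ∈ Kp Q x y :=
    mem_Kp.2 ⟨mul_mem (inv_mem (T_le hτ)) hq, by rw [mul_smul, ← e, inv_smul_smul]⟩
  simpa using ((h.cenT hτ).1 d hd.1).symm.mul_right (h.ge.Kp_comm h.ne hd hd')

theorem ker {d u : G} (hd : d ∈ Kp Q x y) (h1 : d ≠ 1) (hu : u ∈ Y Q x) (e : ⁅d, u⁆ = 1) :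
    u ∈ T Q x := by
  obtain ⟨a, ha⟩ := h.exists_ca
  exact by_contra fun hT => h1 (h.ge.ca_cu ha hd hu hT (commutatorElement_eq_one_iff_commute.1 e))

theorem comm_T {d τ : G} (hd : d ∈ Kp Q x y) (hτ : τ ∈ T Q x) : ⁅d, τ⁆ = 1 :=
  commutatorElement_eq_one_iff_commute.2 ((h.cenT hτ).1 d hd.1).symm

theorem onto {d : G} (hd : d ∈ Kp Q x y) (h1 : d ≠ 1) {τ : G} (hτ : τ ∈ T Q x) :
    ∃ u ∈ Y Q x, ⁅d, u⁆ = τ := by
  let U : Subgroup G :=
    { carrier := {c | ∃ u ∈ Y Q x, ⁅d, u⁆ = c}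
      one_mem' := ⟨1, one_mem _, by simp⟩
      mul_mem' := by
        rintro _ _ ⟨a, ha, rfl⟩ ⟨b, hb, rfl⟩
        exact ⟨a * b, mul_mem ha hb, h.ge.comm_mul_right h.ne hd ha hb⟩
      inv_mem' := by
        rintro _ ⟨a, ha, rfl⟩
        exact ⟨a⁻¹, inv_mem ha, h.ge.comm_inv_right h.ne hd ha⟩ }
  refine h.irr' (U := U) ?_ (fun e => h1 (h.ge.cY h.ne hd fun u hu => ?_)) ?_ hτ
  · rintro _ ⟨u, hu, rfl⟩
    exact h.ge.comm_mem hd.1 hu
  · exact commutatorElement_eq_one_iff_commute.1 (mem_bot.1 (e.le ⟨u, hu, rfl⟩))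
  · rintro e he _ ⟨u, hu, rfl⟩
    exact ⟨_, h.conjY he.2.1 hu, by
      rw [conjugate_commutatorElement, (h.cE he.1 hd).eq, mul_inv_cancel_right]⟩

theorem ne_smul {u : G} (hu : u ∈ Q x) : x ≠ u • y :=
  fun e => h.ne (MulAction.injective u ((h.fam.le x u hu).trans e))

/-- An element of the two-point stabilizer that fixes `u` modulo `T` stabilizes the line through
`x` and `u • y`. -/
theorem stab_line {g u : G} (hg : g ∈ st2 G x y) (hu : u ∈ Q x)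
    (e : g * u * g⁻¹ * u⁻¹ ∈ T Q x) : g ∈ M Q x (u • y) := by
  refine h.ge.mem_M_of (h.ne_smul hu) ?_ ?_
  · rw [show g • x = x from hg.1]; exact h.fam.left_mem_ln _ _
  · have := St.smul_mem (T_le_M (y := u • y) e) (right_mem_ln x (u • y))
    rwa [mul_smul, inv_smul_smul, mul_smul, show g⁻¹ • y = y from (inv_mem hg).2, mul_smul] at this

theorem T_of_mem {u : G} (hu : u ∈ Y Q x) (e : u • y ∈ ln Q x y) : u ∈ T Q x :=
  h.ge.mem_T_of_Y h.ne hu (h.ge.mem_M_of h.ne (by rw [h.fam.le x u hu.1]; exact h.xm) e)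

theorem exists_D : ∃ d ∈ Kp Q x y, d ≠ 1 := by
  obtain ⟨d, hd⟩ := (Subgroup.ne_bot_iff_exists_ne_one).1 (h.nsr h.ne)
  exact ⟨d, d.2, fun e => hd (Subtype.ext e)⟩

/-- If `g` acts on the commutators `⁅d, u⁆` as on `d`, it fixes `Y` modulo `T`. -/
theorem fix_mod {g d u : G} (hg : g • x = x) (hd : d ∈ Kp Q x y) (h1 : d ≠ 1) (hu : u ∈ Y Q x)
    (e : ⁅d, g * u * g⁻¹⁆ = ⁅d, u⁆) : g * u * g⁻¹ * u⁻¹ ∈ T Q x :=
  h.ker hd h1 (mul_mem (h.conjY hg hu) (inv_mem hu)) (by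
    rw [h.ge.comm_mul_right h.ne hd (h.conjY hg hu) (inv_mem hu), e,
      h.ge.comm_inv_right h.ne hd hu, mul_inv_cancel])

theorem WH {k : G} (hk : k ∈ W Q x y) : k ∈ st2 G x y :=
  ⟨mem_W.1 hk x h.xm, mem_W.1 hk y (right_mem_ln x y)⟩

theorem mem_D {g : G} (hW : g ∈ W Q x y) (hc : ∀ d ∈ Kp Q x y, Commute g d) : g ∈ Kp Q x y := by
  have : Fact p.Prime := ⟨h.prime⟩
  let K : Subgroup G := W Q x y ⊓ 𝐂[Kp Q x y]
  have pK : IsPGroup p K := fun k => by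
    obtain ⟨a, ha⟩ := exists_ppart h.prime k.1
    refine ⟨a, Subtype.ext (by_contra fun k1 => ?_)⟩
    have hk : k.1 ^ p ^ a ∈ K := pow_mem k.2 _
    rw [SubgroupClass.coe_pow] at k1
    generalize k.1 ^ p ^ a = g at ha hk k1
    have hg := h.WH hk.1
    have ca : CA Q x y g := ⟨h.ne, k1, h.cop ha, hg.1, hg.2, fun d hd => (hk.2 d hd).symm⟩
    obtain ⟨u, hu, hT⟩ := h.ge.exists_Y h.ne
    obtain ⟨d, hd, d1⟩ := h.exists_D
    refine hT (h.T_of_mem hu (h.ge.ca_line ca (h.ne_smul hu.1) (h.stab_line hg hu.1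
      (h.fix_mod hg.1 hd d1 hu ?_))))
    have := conjugate_commutatorElement (g₁ := d) (g₂ := u) (g₃ := g)
    rw [(ca.cen d hd).eq, mul_inv_cancel_right, ← (h.ge.commTW h.ne h.xm
      (h.ge.comm_mem hd.1 hu) hk.1).eq, mul_inv_cancel_right] at this
    exact this.symm
  have nK : K ≤ 𝐍[Q x] := fun k hk => h.fam.mem_norm (h.WH hk.1).1
  have pS : IsPGroup p ↥(Q x ⊔ K) := h.pQ.to_sup_of_normal_left' pK nK
  have := h.max x (Q x ⊔ K) le_sup_left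
    (sup_le (fun u hu => h.fam.le x u hu) (fun k hk => (h.WH hk.1).1) :
      Q x ⊔ K ≤ stabilizer G x) (fun g hg n hn => ?_) pS.isNilpotent
  · exact ⟨this (mem_sup_right ⟨hW, fun d hd => (hc d hd).symm⟩), (h.WH hW).2⟩
  obtain ⟨u, hu, e⟩ := h.tr x y (g • y) h.ne.symm
    fun e => h.ne (MulAction.injective g (hg.trans e.symm))
  have hb : u⁻¹ * g ∈ st2 G x y := ⟨show _ • x = x by
    rw [mul_smul, hg, h.fam.le x _ (inv_mem hu)], show _ • y = y by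
    rw [mul_smul, ← e, inv_smul_smul]⟩
  obtain ⟨q, hq, k, hk, rfl⟩ := (mem_sup_norm nK).1 hn
  have hk' : u⁻¹ * g * k * (u⁻¹ * g)⁻¹ ∈ K := ⟨conj_mem_W_of_M (h.HM hb) hk.1, fun d hd => by
    have := hk.2 _ (h.ge.conj_Kp_of_M h.ne (inv_mem (h.HM hb)) hd)
    generalize u⁻¹ * g = b at this
    calc d * (b * k * b⁻¹) = b * (b⁻¹ * d * b⁻¹⁻¹ * k) * b⁻¹ := by group
      _ = b * k * b⁻¹ * d := by rw [this]; group⟩
  convert mul_mem (mem_sup_left (h.fam.conj' hg hq)) (mul_mem (mul_mem (mem_sup_left hu)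
    (mem_sup_right hk')) (mem_sup_left (inv_mem hu))) using 1
  group

end ZZ

end Cfsg.Agent.KS
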