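import Mathlib
import Cfsg.Agent.KS.TwoB1

/-!
# Kantor-Seitz: lines of Zassenhaus type do not occur
-/

set_option autoImplicit false
set_option linter.unusedSectionVars false

namespace Cfsg.Agent.KS

open Subgroup MulAction Cfsg.Agent.TT Cfsg.Agent.OT Cfsg.Agent.Perm.TT Cfsg.Agent.Perm.TwoCount
open Cfsg.Agent.Perm Cfsg.Agent.Loc.Mss
open scoped commutatorElement

universe u v

variable {G : Type u} {X : Type v} [Group G] [MulAction G X]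

/-- An involution of the two-point stabilizer. -/
structure ZI (x y : X) (w : G) : Prop where
  sq : w * w = 1
  ne : w ≠ 1
  mem : w ∈ st2 G x y

namespace ZAux

theorem conj_conj {w : G} (hw : w * w = 1) (a : G) : w * (w * a * w⁻¹) * w⁻¹ = a := by
  rw [show w * (w * a * w⁻¹) * w⁻¹ = w * w * a * (w * w)⁻¹ by group, hw]; simp

theorem conj_comm_inv {w : G} (hw : w * w = 1) (a : G) :
    w * (a⁻¹ * (w * a * w⁻¹)) * w⁻¹ = (a⁻¹ * (w * a * w⁻¹))⁻¹ := by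
  rw [show w * (a⁻¹ * (w * a * w⁻¹)) * w⁻¹ = w * a⁻¹ * w⁻¹ * (w * (w * a * w⁻¹) * w⁻¹) by group,
    conj_conj hw]
  group

theorem inv_of_fpf {A : Subgroup G} {w : G} (hw : w * w = 1) (hn : ∀ a ∈ A, w * a * w⁻¹ ∈ A)
    (hc : ∀ a ∈ A, ∀ b ∈ A, Commute a b) (hf : ∀ a ∈ A, w * a * w⁻¹ = a → a = 1) {a : G}
    (ha : a ∈ A) : w * a * w⁻¹ = a⁻¹ :=
  eq_inv_of_mul_eq_one_right (hf _ (mul_mem ha (hn a ha)) (by
    rw [show w * (a * (w * a * w⁻¹)) * w⁻¹ = w * a * w⁻¹ * (w * (w * a * w⁻¹) * w⁻¹) by group,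
      conj_conj hw, (hc _ ha _ (hn a ha)).eq]))

theorem comm_cj {g a : G} (e : g * a * g⁻¹ = a) : Commute g a := mul_inv_eq_iff_eq_mul.1 e

theorem odd_pow {s : G} (ho : Odd (orderOf (s * s))) :
    ∃ k : ℕ, s * (s * s) ^ k * (s * (s * s) ^ k) = 1 := by
  obtain ⟨k, hk⟩ := ho
  refine ⟨k, ?_⟩
  rw [← pow_orderOf_eq_one (s * s), hk, ← sq, ← sq, ← pow_mul, ← pow_mul, ← pow_succ', ← pow_mul]
  congr 1; ring

theorem arith {p s j e b m : ℕ} (hp : p.Prime) (hm : 1 < m) (hj : 2 * m + 1 ≤ p ^ j)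
    (hs : p ^ j < p ^ s) (hb : b ≤ m * p ^ e)
    (h : (p ^ s + 1) * p ^ e = (p ^ j + 1) * p ^ e + (p ^ j + 1) * p ^ j * b) : False := by
  obtain ⟨t, rfl⟩ := Nat.exists_eq_add_of_le ((Nat.pow_lt_pow_iff_right hp.one_lt).1 hs).le
  have hpj : 0 < p ^ j := pow_pos hp.pos j
  have hpe : 0 < p ^ e := pow_pos hp.pos e
  have h1 : p ^ t * p ^ e = p ^ e + (p ^ j + 1) * b :=
    Nat.eq_of_mul_eq_mul_left hpj (by rw [pow_add] at h; linarith)
  have j0 : j ≠ 0 := by rintro rfl; simp at hj; omega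
  have hc : (p ^ e).Coprime (p ^ j + 1) := Nat.Coprime.pow_left e ((Nat.Prime.coprime_iff_not_dvd
    hp).2 fun hd => hp.ne_one (Nat.dvd_one.1 ((Nat.dvd_add_right (dvd_pow_self p j0)).1 hd)))
  obtain ⟨c, rfl⟩ : p ^ e ∣ b := hc.dvd_of_dvd_mul_left
    ((Nat.dvd_add_right dvd_rfl).1 (h1 ▸ Dvd.intro_left _ rfl))
  have h2 : p ^ t = 1 + (p ^ j + 1) * c := Nat.eq_of_mul_eq_mul_left hpe (by linarith)
  have h3 : c ≤ m := Nat.le_of_mul_le_mul_left (by linarith) hpe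
  have c0 : 1 ≤ c := by
    by_contra c0
    rw [pow_add, h2, show c = 0 by omega] at hs
    simp at hs
  have h4 : p ^ j ∣ p ^ t :=
    pow_dvd_pow p ((Nat.pow_lt_pow_iff_right hp.one_lt).1 (by nlinarith)).le
  rw [h2, show 1 + (p ^ j + 1) * c = p ^ j * c + (c + 1) by ring,
    Nat.dvd_add_right (Dvd.intro _ rfl)] at h4
  have := Nat.le_of_dvd (by omega) h4
  omega

end ZAux

open ZAux

variable [Finite G] [Finite X] {Q : X → Subgroup G} {p m : ℕ} {x y : X}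

namespace ZZ

variable (h : ZZ Q p x y m) {w : G}
include h

theorem oc : OC Q := h.ge.toOC

theorem cop_w (hw : ZI x y w) : (orderOf w).Coprime p := by
  rw [two_of hw.sq hw.ne]
  exact (Nat.coprime_primes Nat.prime_two h.prime).2 (h.ge.p_ne_two x).symm

theorem conjD {g d : G} (hg : g ∈ st2 G x y) (hd : d ∈ Kp Q x y) : g * d * g⁻¹ ∈ Kp Q x y :=
  h.ge.conj_Kp_of_M h.ne (h.HM hg) hd

theorem T_sq {τ : G} (hτ : τ ∈ T Q x) (e : τ = τ⁻¹) : τ = 1 :=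
  h.oc.eq_one_of_sq (T_le hτ) (mul_eq_one_iff_eq_inv.2 e)

theorem second' (hw : ZI x y w) {u : G} (hu : u ∈ Q x) (e : w * u * w⁻¹ * u⁻¹ ∈ T Q x) :
    ∃ c, c ≠ x ∧ w • c = c ∧ ln Q x c = ln Q x (u • y) := by
  obtain ⟨c, hc, cx, e⟩ := h.ge.second (h.ne_smul hu) hw.sq (h.stab_line hw.mem hu e)
    (h.fam.left_mem_ln _ _) hw.mem.1
  exact ⟨c, cx, e, h.ge.ln_eq (h.ne_smul hu) (h.fam.left_mem_ln _ _) hc cx.symm⟩

theorem cent_eq_one (hw : ZI x y w) {d : G} (hd : d ∈ Kp Q x y) (hc : w * d * w⁻¹ = d) :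
    d = 1 := by
  by_contra d1
  have A : ∀ u ∈ Y Q x, ∀ d' ∈ Kp Q x y, ⁅d', w * u * w⁻¹⁆ = ⁅d', u⁆⁻¹ := fun u hu d' hd' => by
    have hu' := h.conjY hw.mem.1 hu
    have hg := mul_mem hu hu'
    obtain ⟨c, cx, e, hl⟩ := h.second' hw (Y_le hg) (by
      rw [show w * (u * (w * u * w⁻¹)) * w⁻¹ = w * u * w⁻¹ * (w * (w * u * w⁻¹) * w⁻¹) by group,
        conj_conj hw.sq]
      convert hu'.2.2 u hu.1 using 1
      simp only [commutatorElement_def]; group)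
    have hc := h.fixD hd d1 (h.ge.fix_fix h.ne (h.cop_w hw) hw.ne hw.mem.1 hw.mem.2 hd
      (comm_cj hc).symm e)
    have hT := h.T_of_mem hg (by
      rw [← h.ge.ln_eq h.ne h.xm hc cx.symm, hl]; exact right_mem_ln _ _)
    exact eq_inv_of_mul_eq_one_right (by
      rw [← h.ge.comm_mul_right h.ne hd' hu hu', h.comm_T hd' hT])
  obtain ⟨a, ha, na⟩ : ∃ a ∈ Kp Q x y, ¬ Commute w a := by
    by_contra hn
    push Not at hn
    exact hw.ne (h.noinv h.ne w hw.sq hw.mem.1 hw.mem.2 hn)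
  have hb := mul_mem (inv_mem ha) (h.conjD hw.mem ha)
  refine h.ge.T_ne_bot x (eq_bot_iff.2 fun τ hτ => h.T_sq hτ ?_)
  obtain ⟨u, hu, e⟩ := h.onto hd d1 hτ
  obtain ⟨u', hu', e'⟩ := h.onto hb (fun e => na (comm_cj (inv_mul_eq_one.1 e).symm)) hτ
  have e1 : w * τ * w⁻¹ = τ⁻¹ := by rw [← e, conjugate_commutatorElement, hc, A u hu d hd]
  rw [← e1, ← e', conjugate_commutatorElement, conj_comm_inv hw.sq,
    h.ge.comm_inv_left h.ne hb (h.conjY hw.mem.1 hu'), A u' hu' _ hb, inv_inv]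

theorem invD (hw : ZI x y w) {d : G} (hd : d ∈ Kp Q x y) : w * d * w⁻¹ = d⁻¹ :=
  inv_of_fpf hw.sq (fun _ => h.conjD hw.mem) (fun _ ha _ hb => h.ge.Kp_comm h.ne ha hb)
    (fun _ => h.cent_eq_one hw) hd

theorem not_real {e τ : G} (he : e ∈ EI Q x y) (hτ : τ ∈ T Q x) (c : e * τ * e⁻¹ = τ⁻¹) :
    τ = 1 := by
  have := commute_of_sq (h.oddI he) (comm_cj (show e * e * τ * (e * e)⁻¹ = τ by
    rw [show e * e * τ * (e * e)⁻¹ = e * (e * τ * e⁻¹) * e⁻¹ by group, c, ← conj_inv, c, inv_inv]))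
  rw [this.eq, mul_inv_cancel_right] at c
  exact h.T_sq hτ c

theorem conj_of_orbit {τ σ : G} (hτ : τ ∈ T Q x) (hσ : σ ∈ T Q x)
    (c : σ • y ∈ orbit (EI Q x y) (τ • y)) : ∃ e ∈ EI Q x y, e * τ * e⁻¹ = σ := by
  obtain ⟨e, he, c⟩ := Fx.mem_orbit_sub.1 c
  exact ⟨e, he, h.T_inj (h.conjT he.2.1 hτ) hσ (by
    rw [mul_smul, mul_smul, show e⁻¹ • y = y from (inv_mem he).2.2, c])⟩

theorem two_cl {τ σ : G} (hτ : τ ∈ T Q x) (t1 : τ ≠ 1) (hσ : σ ∈ T Q x) (s1 : σ ≠ 1) :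
    ∃ e ∈ EI Q x y, e * τ * e⁻¹ = σ ∨ e * τ⁻¹ * e⁻¹ = σ := by
  have a1 := h.T_smul hτ t1
  have a2 := h.T_smul (inv_mem hτ) (inv_ne_one.2 t1)
  have o1 : ∀ c ∈ ln Q x y \ {x, y}, orbit (EI Q x y) c ⊆ ln Q x y \ {x, y} := fun c hc b hb => by
    obtain ⟨e, he, rfl⟩ := Fx.mem_orbit_sub.1 hb
    exact h.smul_mem2 he.2 hc
  have o2 : ∀ c : X, ∀ e ∈ EI Q x y, ∀ b ∈ orbit (EI Q x y) c, e • b ∈ orbit (EI Q x y) c :=
    fun c e he b hb => by
      obtain ⟨e', he', rfl⟩ := Fx.mem_orbit_sub.1 hb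
      exact Fx.mem_orbit_sub.2 ⟨e * e', mul_mem he he', mul_smul _ _ _⟩
  rcases h.inv_set (Set.union_subset (o1 _ a1) (o1 _ a2))
    (fun e he b hb => hb.imp (o2 _ e he b) (o2 _ e he b))
    ⟨_, Or.inl (mem_orbit_self _)⟩ with e | e
  · have := Set.eq_of_subset_of_ncard_le Set.subset_union_left (e.trans (h.orb_card a1).symm).le
    obtain ⟨e, he, c⟩ := h.conj_of_orbit hτ (inv_mem hτ) (this.ge (Or.inr (mem_orbit_self _)))
    exact absurd (h.not_real he hτ c) t1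
  · rcases e.ge (h.T_smul hσ s1) with c | c
    · obtain ⟨e, he, c⟩ := h.conj_of_orbit hτ hσ c
      exact ⟨e, he, Or.inl c⟩
    · obtain ⟨e, he, c⟩ := h.conj_of_orbit (inv_mem hτ) hσ c
      exact ⟨e, he, Or.inr c⟩

theorem pmT (hw : ZI x y w) :
    (∀ τ ∈ T Q x, w * τ * w⁻¹ = τ) ∨ ∀ τ ∈ T Q x, w * τ * w⁻¹ = τ⁻¹ := by
  by_cases hf : ∀ a ∈ T Q x, w * a * w⁻¹ = a → a = 1
  · exact Or.inr fun τ hτ => inv_of_fpf hw.sq (fun _ => h.conjT hw.mem.1)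
      (fun a ha b hb => (h.cenT ha).1 b (T_le hb)) hf hτ
  push Not at hf
  obtain ⟨a, ha, wa, a1⟩ := hf
  refine Or.inl fun τ hτ => (inv_mul_eq_one.1 (by_contra fun s1 => ?_)).symm
  have hσ := mul_mem (inv_mem hτ) (h.conjT hw.mem.1 hτ)
  have wσ := conj_comm_inv hw.sq τ
  generalize τ⁻¹ * (w * τ * w⁻¹) = σ at s1 hσ wσ
  obtain ⟨e, he, ρ, wρ, rfl⟩ : ∃ e ∈ EI Q x y, ∃ ρ, w * ρ * w⁻¹ = ρ ∧ e * ρ * e⁻¹ = σ := by
    obtain ⟨e, he, c | c⟩ := h.two_cl ha a1 hσ s1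
    exacts [⟨e, he, a, wa, c⟩, ⟨e, he, a⁻¹, by rw [← conj_inv, wa], c⟩]
  refine s1 (h.not_real (mul_mem (h.conjI hw.mem he) (inv_mem he)) hσ ?_)
  rw [← wσ]
  conv_lhs => rw [← wρ]
  group

theorem cW {g : G} (hg : g ∈ st2 G x y) (hc : ∀ τ ∈ T Q x, Commute g τ) : g ∈ W Q x y :=
  mem_W.2 fun c hc' => by
    by_cases hx : c = x
    · rw [hx]; exact hg.1
    obtain ⟨τ, hτ, rfl⟩ := h.trT hc' hx
    exact smul_fix_of_commute (hc τ hτ).symm hg.2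

theorem commW (hw : ZI x y w) {b : G} (hb : b ∈ st2 G x y) : w * b * w⁻¹ * b⁻¹ ∈ W Q x y := by
  refine h.cW (mul_mem (mul_mem (mul_mem hw.mem hb) (inv_mem hw.mem)) (inv_mem hb))
    fun τ hτ => comm_cj ?_
  have hσ := h.conjT (mul_mem (inv_mem hw.mem) (inv_mem hb)).1 hτ
  have key : ∀ σ ∈ T Q x, w * (b * σ * b⁻¹) * w⁻¹ = b * (w * σ * w⁻¹) * b⁻¹ := fun σ hσ => by
    rcases h.pmT hw with c | c <;> rw [c _ (h.conjT hb.1 hσ), c _ hσ]
    group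
  convert key _ hσ using 1 <;> group

theorem odd_of_conj {g : G} (hg : g ∈ st2 G x y) (hc : ∀ d ∈ Kp Q x y, g * d * g⁻¹ = d) :
    Odd (orderOf g) :=
  h.toII.odd_cen h.ne hg.1 hg.2 fun d hd => comm_cj (hc d hd)

theorem cen_mul {a b : G} (ha : ∀ d ∈ Kp Q x y, a * d * a⁻¹ = d⁻¹)
    (hb : ∀ d ∈ Kp Q x y, b * d * b⁻¹ = d⁻¹) : ∀ d ∈ Kp Q x y, a * b * d * (a * b)⁻¹ = d :=
  fun d hd => by
    rw [show a * b * d * (a * b)⁻¹ = a * (b * d * b⁻¹) * a⁻¹ by group, hb d hd, ha _ (inv_mem hd),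
      inv_inv]

theorem mulD (hw : ZI x y w) {t : G} (ht : ZI x y t) : w * t ∈ Kp Q x y := by
  have hc := h.cen_mul (fun _ => h.invD hw) (fun _ => h.invD ht)
  refine h.mem_D (mem_of_sq (h.odd_of_conj (mul_mem hw.mem ht.mem) hc) ?_)
    fun d hd => comm_cj (hc d hd)
  simpa [inv_eq_of_mul_eq_one_right hw.sq, inv_eq_of_mul_eq_one_right ht.sq, mul_assoc] using
    h.commW hw ht.mem

theorem fix_ge (hw : ZI x y w) : 2 * m + 1 ≤ (fixedBy X w \ {x}).ncard := by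
  rcases h.pmT hw with c | c
  · rw [← h.card1]
    exact Set.ncard_le_ncard fun b hb =>
      ⟨mem_W.1 (h.cW hw.mem fun τ hτ => comm_cj (c τ hτ)) b hb.1, hb.2⟩
  obtain ⟨d, hd, d1⟩ := h.exists_D
  have : ∀ τ : T Q x, ∃ b : ↥(fixedBy X w \ {x}), ∃ u ∈ Y Q x, ⁅d, u⁆ = τ ∧
      ln Q x b = ln Q x (u • y) := fun τ => by
    obtain ⟨u, hu, e⟩ := h.onto hd d1 τ.2
    obtain ⟨b, bx, wb, hl⟩ := h.second' hw hu.1 (h.fix_mod hw.mem.1 hd d1 hu (by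
      have := c _ (h.ge.comm_mem hd.1 hu)
      rwa [conjugate_commutatorElement, h.invD hw hd,
        h.ge.comm_inv_left h.ne hd (h.conjY hw.mem.1 hu), inv_inj] at this))
    exact ⟨⟨b, wb, bx⟩, u, hu, e, hl⟩
  choose f u hu e hl using this
  rw [← h.cardT, ← Nat.card_coe_set_eq]
  refine Nat.card_le_card_of_injective f fun τ σ c => Subtype.ext ?_
  have hv := mul_mem (inv_mem (hu σ)) (hu τ)
  have hT := h.T_of_mem hv (h.fam.smul_mem_ln_iff (g := u σ).1 (by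
    rw [h.fam.le x _ (hu σ).1, ← hl, ← c, hl, mul_smul, smul_inv_smul]; exact right_mem_ln _ _))
  have := h.comm_T hd hT
  rw [h.ge.comm_mul_right h.ne hd (inv_mem (hu σ)) (hu τ), h.ge.comm_inv_right h.ne hd (hu σ),
    e, e, inv_mul_eq_one] at this
  exact this.symm

theorem pow_of_tr {U : Subgroup G} (hU : U ≤ Q x) {S : Set X} (t : T1 U S) (hy : y ∈ S) :
    ∃ j, S.ncard = p ^ j := by
  have : Fact p.Prime := ⟨h.prime⟩
  obtain ⟨s, hs⟩ := IsPGroup.iff_card.1 (h.pQ.to_le hU)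
  obtain ⟨j, -, e⟩ := (Nat.dvd_prime_pow h.prime).1 (hs ▸ Dvd.intro _ (t.card hy).symm)
  exact ⟨j, e⟩

theorem smul_ne {u : G} (hu : u ∈ Q x) {c : X} (hc : c ≠ x) : u • c ≠ x :=
  fun e => hc (MulAction.injective u (e.trans (h.fam.le x u hu).symm))

theorem fix_pow (hw : ZI x y w) : ∃ j, (fixedBy X w \ {x}).ncard = p ^ j :=
  h.pow_of_tr (U := Q x ⊓ centralizer {w}) inf_le_left ⟨fun g hg c hc =>
    ⟨smul_fix_of_commute (mem_centralizer_singleton_iff.1 hg.2) hc.1, h.smul_ne hg.1 hc.2⟩,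
    fun a ha b hb => by
      obtain ⟨u, hu, c, e⟩ := h.ge.fix_tr (h.cop_w hw) hw.mem.1 ha.2 hb.2 ha.1 hb.1
      exact ⟨u, ⟨hu, mem_centralizer_singleton_iff.2 c⟩, e⟩⟩ ⟨hw.mem.2, h.ne.symm⟩

theorem univ_pow : ∃ s, (Set.univ \ {x}).ncard = p ^ s :=
  h.pow_of_tr le_rfl ⟨fun _ hg _ hc => ⟨trivial, h.smul_ne hg hc.2⟩,
    fun a ha b hb => h.tr x a b ha.2 hb.2⟩ ⟨trivial, h.ne.symm⟩

theorem exists_n : ∃ n ∈ E Q x y, n * n = 1 ∧ n • x = y := by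
  obtain ⟨a, ha, e⟩ := h.trE h.ne h.xm (right_mem_ln x y)
  obtain ⟨τ, hτ, e'⟩ := h.trT (St.smul_mem (inv_mem (h.ge.E_le_M h.ne ha)) h.xm)
    fun c => h.ne ((inv_smul_eq_iff.1 c).trans e)
  have hs : a * τ ∈ E Q x y := mul_mem ha (T_le_E h.xm hτ)
  have sx : (a * τ) • x = y := by rw [mul_smul, h.fam.le x τ hτ.1, e]
  have sy : (a * τ) • y = x := by rw [mul_smul, e', smul_inv_smul]
  generalize a * τ = s at hs sx sy
  have hI : s * s ∈ EI Q x y := mem_inf.2 ⟨mul_mem hs hs, mem_st2.2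
    ⟨by rw [mul_smul, sx, sy], by rw [mul_smul, sy, sx]⟩⟩
  obtain ⟨k, hk⟩ := odd_pow (h.oddI hI)
  exact ⟨_, mul_mem hs (pow_mem hI k).1, hk, by
    rw [mul_smul, show (s * s) ^ k • x = x from (pow_mem hI k).2.1, sx]⟩

theorem swap {t : G} (ht : t * t = 1) (tx : t • x = y) : t • y = x := by
  rw [← tx, ← mul_smul, ht, one_smul]

theorem swapM {t : G} (ht : t * t = 1) (tx : t • x = y) : t ∈ M Q x y :=
  h.ge.mem_M_of h.ne (tx ▸ right_mem_ln _ _) (by rw [h.swap ht tx]; exact h.xm)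

theorem swap_mul {s t : G} (hs : s * s = 1) (sx : s • x = y) (ht : t * t = 1) (tx : t • x = y) :
    s * t ∈ st2 G x y :=
  mem_st2.2 ⟨by rw [mul_smul, tx, h.swap hs sx], by rw [mul_smul, h.swap ht tx, sx]⟩

theorem conjE {n g d : G} (hn : n ∈ E Q x y) (hg : g ∈ M Q x y) (hd : d ∈ Kp Q x y) :
    n * g * d * (n * g)⁻¹ = g * d * g⁻¹ := by
  rw [show n * g * d * (n * g)⁻¹ = n * (g * d * g⁻¹) * n⁻¹ by group,
    (h.cE hn (h.ge.conj_Kp_of_M h.ne hg hd)).eq, mul_inv_cancel_right]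

theorem inv_swap {t : G} (ht : t * t = 1) (tx : t • x = y) {c : X} (tc : t • c = c) {d : G}
    (hd : d ∈ Kp Q x y) : t * d * t⁻¹ = d⁻¹ := by
  obtain ⟨n, hn, n2, nx⟩ := h.exists_n
  have hs := h.swap_mul n2 nx ht tx
  have e1 := fun d => h.conjE (d := d) hn (h.swapM ht tx)
  generalize n * t = s at hs e1
  have e2 : ∀ d ∈ Kp Q x y, s * s * d * (s * s)⁻¹ = d := fun d hd => by
    rw [show s * s * d * (s * s)⁻¹ = s * (s * d * s⁻¹) * s⁻¹ by group, e1 _ (h.conjD hs hd),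
      e1 d hd, conj_conj ht]
  obtain ⟨k, hk⟩ := odd_pow (h.odd_of_conj (mul_mem hs hs) e2)
  have e3 : ∀ d ∈ Kp Q x y, s * (s * s) ^ k * d * (s * (s * s) ^ k)⁻¹ = t * d * t⁻¹ :=
    fun d hd => by
      rw [mul_assoc s, ((comm_cj (e2 d hd)).pow_left k).eq, ← e1 d hd]; group
  rw [← e3 d hd]
  refine h.invD ⟨hk, fun e => ?_, mul_mem hs (pow_mem (mul_mem hs hs) k)⟩ hd
  refine h.toII.fpf h.ne ht (fun e => h.ne (by rw [← tx, e, one_smul]))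
    (fun d hd => comm_cj ?_) c tc
  rw [← e3 d hd, e]; simp

theorem swap_prod (hw : ZI x y w) {s t : G} (hs : s * s = 1) (sx : s • x = y) {a : X}
    (sa : s • a = a) (ht : t * t = 1) (tx : t • x = y) {b : X} (tb : t • b = b) :
    ∃ e ∈ EI Q x y, ∃ d ∈ Kp Q x y, s * t = e * d := by
  let N : Subgroup G :=
    { carrier := {g | ∃ e ∈ E Q x y, ∃ k ∈ W Q x y, g = e * k}
      one_mem' := ⟨1, one_mem _, 1, one_mem _, by simp⟩
      mul_mem' := by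
        rintro _ _ ⟨e, he, k, hk, rfl⟩ ⟨e', he', k', hk', rfl⟩
        exact ⟨_, mul_mem he he', _, mul_mem hk hk',
          (h.ge.commEW h.ne he' hk).symm.mul_mul_mul_comm e k'⟩
      inv_mem' := by
        rintro _ ⟨e, he, k, hk, rfl⟩
        exact ⟨_, inv_mem he, _, inv_mem hk, by rw [(h.ge.commEW h.ne he hk).eq, mul_inv_rev]⟩ }
  have hE : ∀ e ∈ E Q x y, e ∈ N := fun e he => ⟨e, he, 1, one_mem _, by simp⟩
  obtain ⟨n, hn, n2, nx⟩ := h.exists_n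
  have sM := h.swapM hs sx
  have is := fun d => h.inv_swap (d := d) hs sx sa
  have hg := h.swap_mul hs sx ht tx
  have cg := h.cen_mul is fun d => h.inv_swap (d := d) ht tx tb
  have ig : s * (s * t) * s⁻¹ = (s * t)⁻¹ := by
    rw [← mul_assoc, hs, one_mul, mul_inv_rev, inv_eq_of_mul_eq_one_right ht]
  generalize s * t = g at hg cg ig
  have hc := mul_mem (h.swap_mul n2 nx hs sx) hw.mem
  obtain ⟨e, he, k, hk, rfl⟩ : g ∈ N := by
    refine mem_of_inv_mod (A := M Q x y) ?_ (h.HM hc) (h.HM hg) (h.odd_of_conj hc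
      (h.cen_mul (fun d hd => ?_) fun _ => h.invD hw)) (h.odd_of_conj hg cg) ?_
    · rintro b hb _ ⟨e, he, k, hk, rfl⟩
      exact ⟨_, conj_mem_E_of_M h.fam hb he, _, conj_mem_W_of_M hb hk, by group⟩
    · rw [h.conjE hn sM hd, is d hd]
    · have := mul_mem (show _ ∈ N from ⟨n, hn, _, conj_mem_W_of_M sM (h.commW hw hg), rfl⟩)
        (hE _ (conj_mem_E_of_M h.fam (inv_mem (h.HM hg)) (inv_mem hn)))
      nth_rw 2 [← ig] at this
      convert this using 1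
      group
  refine ⟨e, mem_inf.2 ⟨he, by simpa using mul_mem hg (inv_mem (h.WH hk))⟩, k,
    h.mem_D hk fun d hd => ?_, rfl⟩
  simpa using (h.cE he hd).inv_left.mul_left (comm_cj (cg d hd))

theorem card_fix (hw : ZI x y w) :
    {t | t ∈ {t | IsConj w t} ∧ t • x = x ∧ t • y = y}.ncard = Nat.card (Kp Q x y) := by
  rw [← Nat.card_coe_set_eq, ← SetLike.coe_sort_coe, Nat.card_coe_set_eq, Nat.card_coe_set_eq,
    ← Set.ncard_image_of_injective (Kp Q x y : Set G) (mul_right_injective w)]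
  congr 1
  ext t
  refine ⟨fun ht => ?_, ?_⟩
  · have o := two_isConj (two_of hw.sq hw.ne) ht.1
    exact ⟨w * t, h.mulD hw ⟨mul_self_two o, ne_one_two o, ht.2⟩, by
      simp only [← mul_assoc, hw.sq, one_mul]⟩
  · rintro ⟨d, hd, rfl⟩
    refine ⟨?_, mul_mem hw.mem (h.WH (Kp_le_W hd))⟩
    obtain ⟨k, hk⟩ := h.oc.odd_orderOf (x := x) hd.1
    have hb := h.invD hw (inv_mem (pow_mem hd (k + 1)))
    refine isConj_iff.2 ⟨(d ^ (k + 1))⁻¹, ?_⟩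
    have e : d ^ (k + 1) * d ^ (k + 1) = d := by
      rw [← pow_add, show k + 1 + (k + 1) = orderOf d + 1 by omega, pow_succ, pow_orderOf_eq_one,
        one_mul]
    generalize d ^ (k + 1) = b at hb e
    rw [inv_inv] at hb ⊢
    rw [← e]
    show _ = w * (b * b)
    nth_rw 3 [← hb]
    rw [← mul_assoc, ← mul_assoc, ← mul_assoc, hw.sq, one_mul, inv_eq_of_mul_eq_one_right hw.sq]

theorem card_swap (hw : ZI x y w) :
    {t | t ∈ {t | IsConj w t} ∧ t • x = y}.ncard ≤ m * Nat.card (Kp Q x y) := by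
  rcases {t | t ∈ {t | IsConj w t} ∧ t • x = y}.eq_empty_or_nonempty with e | ⟨s, hs⟩
  · rw [e]; simp
  have a : ∀ t : G, IsConj w t → t * t = 1 ∧ ∃ c : X, t • c = c := fun t ht =>
    ⟨mul_self_two (two_isConj (two_of hw.sq hw.ne) ht), by
      obtain ⟨g, rfl⟩ := isConj_iff.1 ht
      exact ⟨g • x, conj_smul_iff.2 hw.mem.1⟩⟩
  obtain ⟨c, hc⟩ := h.third
  choose f hf using fun b : orbit (EI Q x y) c => Fx.mem_orbit_sub.1 b.2
  rw [← h.orb_card hc, ← Nat.card_coe_set_eq, ← Nat.card_coe_set_eq, ← Nat.card_prod]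
  obtain ⟨s2, b, sb⟩ := a s hs.1
  have : ∀ t : {t | t ∈ {t | IsConj w t} ∧ t • x = y},
      ∃ z : orbit (EI Q x y) c × Kp Q x y, s * t = f z.1 * z.2 := fun t => by
    obtain ⟨t2, b', tb⟩ := a t t.2.1
    obtain ⟨e, he, d, hd, c'⟩ := h.swap_prod hw s2 hs.2 sb t2 t.2.2 tb
    let o : orbit (EI Q x y) c := ⟨e • c, Fx.mem_orbit_sub.2 ⟨e, he, rfl⟩⟩
    have hI := mul_mem (inv_mem (hf o).1) he
    refine ⟨⟨o, (f o)⁻¹ * e * d, mul_mem (h.mem_D (h.three _ hI.1 hI.2.1 hI.2.2 c hc.1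
      (fun e => hc.2 (Or.inl e)) (fun e => hc.2 (Or.inr e)) ?_) fun d hd => h.cE hI.1 hd) hd⟩, ?_⟩
    · rw [mul_smul, inv_smul_eq_iff, (hf o).2]
    · rw [c']; simp [mul_assoc]
  choose F hF using this
  exact Nat.card_le_card_of_injective F fun t t' e =>
    Subtype.ext (mul_left_cancel (a := s) (by rw [hF, hF, e]))

theorem false : False := by
  have : Fact (Nat.Prime 2) := ⟨Nat.prime_two⟩
  have : Fact p.Prime := ⟨h.prime⟩
  obtain ⟨w, ow⟩ := exists_prime_orderOf_dvd_card' 2 (h.ge.even_st2 h.ne).two_dvd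
  rw [← Subgroup.orderOf_coe] at ow
  have hw : ZI x y w.1 := ⟨mul_self_two ow, ne_one_two ow, w.2⟩
  generalize w.1 = t at hw
  obtain ⟨j, hj⟩ := h.fix_pow hw
  obtain ⟨s, hs⟩ := h.univ_pow
  obtain ⟨e, he⟩ := IsPGroup.iff_card.1 (h.ge.isPGroup_Kp h.ne)
  have f1 : (fixedBy X t).ncard = p ^ j + 1 := by
    rw [← hj, Set.ncard_sdiff_singleton_add_one (show x ∈ fixedBy X t from hw.mem.1)]
  have f2 : (Set.univ : Set X).ncard = p ^ s + 1 := by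
    rw [← hs, Set.ncard_sdiff_singleton_add_one (Set.mem_univ x)]
  have key := T2.swap_count (H := ⊤) (Δ := Set.univ) (X := {g : G | IsConj t g}) (a := x) (b := y)
    (f := p ^ j + 1) ⟨fun _ _ _ _ => trivial, fun _ _ _ _ _ _ _ _ h1 h2 => by
      obtain ⟨g, hg⟩ := h.two.two h1 h2
      exact ⟨g, trivial, hg⟩⟩ (fun g _ a ha => IsConj.trans ha (isConj_iff.2 ⟨g, rfl⟩))
    (fun _ _ _ _ => trivial) (fun a ha => by
      obtain ⟨g, rfl⟩ := isConj_iff.1 ha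
      rw [Set.univ_inter, ncard_fix_conj, f1]) (by omega) trivial trivial h.ne
  rw [h.card_fix hw, f2, he, Nat.add_sub_cancel] at key
  refine arith h.prime h.one_lt (hj ▸ h.fix_ge hw) ?_ (he ▸ h.card_swap hw) key
  have : (fixedBy X t).ncard < (Set.univ : Set X).ncard :=
    Set.ncard_lt_ncard (Set.ssubset_univ_iff.2 fun c => hw.ne (h.two.faith t fun b => c.ge trivial))
  omega

end ZZ

theorem II.not_zs {G : Type u} {X : Type v} [Group G] [Finite G] [MulAction G X] [Finite X]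
    {Q : X → Subgroup G} {p : ℕ} {x y : X} (h : II Q p) {m : ℕ} (hZ : Zs Q x y m) : False :=
  ZZ.false ⟨h, hZ⟩

end Cfsg.Agent.KS
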